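import Mathlib

/-!
# Irreducible components through a point and minimal primes of the stalk (helper8)
-/

universe u
open CategoryTheory AlgebraicGeometry Topology

namespace Groth.Agent.H8.Brnch

variable (X : Scheme.{u}) (x : X)

theorem fromSpecStalk_specializes_iff {P Q : PrimeSpectrum (X.presheaf.stalk x)} :
    X.fromSpecStalk x P ⤳ X.fromSpecStalk x Q ↔ P ⤳ Q :=
  (X.fromSpecStalk x).isEmbedding.isInducing.specializes_iff

theorem fromSpecStalk_specializes (P : PrimeSpectrum (X.presheaf.stalk x)) :
    X.fromSpecStalk x P ⤳ x := by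
  have : X.fromSpecStalk x P ∈ Set.range (X.fromSpecStalk x) := ⟨P, rfl⟩
  rw [Scheme.range_fromSpecStalk] at this
  exact this

theorem exists_of_specializes {y : X} (h : y ⤳ x) :
    ∃ P : PrimeSpectrum (X.presheaf.stalk x), X.fromSpecStalk x P = y := by
  have : y ∈ Set.range (X.fromSpecStalk x) := by
    rw [Scheme.range_fromSpecStalk]; exact h
  exact this

/-- The closure of the image of a minimal prime of the stalk is an irreducible component through
the point. -/
theorem closure_mem_irreducibleComponents {P : PrimeSpectrum (X.presheaf.stalk x)}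
    (hP : P.asIdeal ∈ minimalPrimes (X.presheaf.stalk x)) :
    closure {X.fromSpecStalk x P} ∈ irreducibleComponents X ∧
      x ∈ closure {X.fromSpecStalk x P} := by
  refine ⟨⟨isIrreducible_singleton.closure, ?_⟩, (fromSpecStalk_specializes X x P).mem_closure⟩
  intro T hT hle
  have hgen := hT.isGenericPoint_genericPoint_closure
  set t := hT.genericPoint with ht
  have h1 : t ⤳ X.fromSpecStalk x P :=
    hgen.specializes (subset_closure (hle (subset_closure rfl)))
  obtain ⟨P', hP'⟩ := exists_of_specializes X x (h1.trans (fromSpecStalk_specializes X x P))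
  rw [← hP', fromSpecStalk_specializes_iff, ← PrimeSpectrum.le_iff_specializes] at h1
  have h2 : P.asIdeal ≤ P'.asIdeal := hP.2 ⟨P'.2, bot_le⟩ h1
  have h3 : P' = P := PrimeSpectrum.ext (le_antisymm h1 h2)
  calc T ⊆ closure T := subset_closure
    _ = closure {t} := hgen.def.symm
    _ = closure {X.fromSpecStalk x P} := by rw [← hP', h3]

/-- Every irreducible component through the point is the closure of the image of a minimal prime
of the stalk. -/
theorem exists_minimalPrime_of_mem_irreducibleComponents {Z : Set X}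
    (hZ : Z ∈ irreducibleComponents X) (hx : x ∈ Z) :
    ∃ P : PrimeSpectrum (X.presheaf.stalk x), P.asIdeal ∈ minimalPrimes (X.presheaf.stalk x) ∧
      Z = closure {X.fromSpecStalk x P} := by
  have hcl : IsClosed Z := isClosed_of_mem_irreducibleComponents Z hZ
  have hgen := hZ.1.isGenericPoint_genericPoint_closure
  rw [hcl.closure_eq] at hgen
  set t := hZ.1.genericPoint
  have htx : t ⤳ x := hgen.specializes hx
  obtain ⟨P, hP⟩ := exists_of_specializes X x htx
  refine ⟨P, ⟨⟨P.2, bot_le⟩, ?_⟩, by rw [hP]; exact hgen.def.symm⟩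
  rintro Q ⟨hQ, -⟩ hQP
  let Q' : PrimeSpectrum (X.presheaf.stalk x) := ⟨Q, hQ⟩
  have h1 : X.fromSpecStalk x Q' ⤳ X.fromSpecStalk x P := by
    rw [fromSpecStalk_specializes_iff, ← PrimeSpectrum.le_iff_specializes]
    exact hQP
  have h2 : Z ⊆ closure {X.fromSpecStalk x Q'} := by
    rw [← hgen.def, ← hP]
    exact closure_minimal (Set.singleton_subset_iff.mpr h1.mem_closure) isClosed_closure
  have h3 : closure {X.fromSpecStalk x Q'} ⊆ Z := hZ.2 isIrreducible_singleton.closure h2
  have h4 : X.fromSpecStalk x P ⤳ X.fromSpecStalk x Q' := by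
    rw [specializes_iff_mem_closure, hP, hgen.def]
    exact h3 (subset_closure rfl)
  rw [fromSpecStalk_specializes_iff, ← PrimeSpectrum.le_iff_specializes] at h4
  exact h4

/-- The irreducible components of a scheme through a point correspond to the minimal primes of the
stalk. -/
noncomputable def equivComponents :
    {P : Ideal (X.presheaf.stalk x) // P ∈ minimalPrimes (X.presheaf.stalk x)} ≃
      {Z : Set X // Z ∈ irreducibleComponents X ∧ x ∈ Z} := by
  refine Equiv.ofBijective
    (fun P => ⟨closure {X.fromSpecStalk x ⟨P.1, P.2.1.1⟩},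
      closure_mem_irreducibleComponents X x (P := ⟨P.1, P.2.1.1⟩) P.2⟩) ⟨?_, ?_⟩
  · rintro ⟨P, hP⟩ ⟨Q, hQ⟩ h
    have h1 : closure {X.fromSpecStalk x ⟨P, hP.1.1⟩} = closure {X.fromSpecStalk x ⟨Q, hQ.1.1⟩} :=
      congrArg Subtype.val h
    have hg1 : IsGenericPoint (X.fromSpecStalk x ⟨P, hP.1.1⟩)
      (closure {X.fromSpecStalk x ⟨Q, hQ.1.1⟩}) := h1
    have hg2 : IsGenericPoint (X.fromSpecStalk x ⟨Q, hQ.1.1⟩)
      (closure {X.fromSpecStalk x ⟨Q, hQ.1.1⟩}) := rfl
    have h2 := (X.fromSpecStalk x).isEmbedding.injective (hg1.eq hg2)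
    exact Subtype.ext (congrArg PrimeSpectrum.asIdeal h2)
  · rintro ⟨Z, hZ, hx⟩
    obtain ⟨P, hP, rfl⟩ := exists_minimalPrime_of_mem_irreducibleComponents X x hZ hx
    exact ⟨⟨P.asIdeal, hP⟩, rfl⟩

theorem encard_components_eq :
    {Z : Set X | Z ∈ irreducibleComponents X ∧ x ∈ Z}.encard =
      ENat.card (minimalPrimes (X.presheaf.stalk x)) :=
  (ENat.card_congr (equivComponents X x)).symm

/-- Exactly one irreducible component through `x` iff the nilradical of the stalk is prime. -/
theorem encard_components_eq_one_iff :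
    {Z : Set X | Z ∈ irreducibleComponents X ∧ x ∈ Z}.encard = 1 ↔
      (nilradical (X.presheaf.stalk x)).IsPrime := by
  rw [encard_components_eq, ENat.card_eq_one_iff_unique]
  constructor
  · rintro ⟨hU⟩
    let P : minimalPrimes (X.presheaf.stalk x) := hU.default
    have h1 : nilradical (X.presheaf.stalk x) = P.1 := by
      rw [nilradical, ← Ideal.sInf_minimalPrimes]
      apply le_antisymm
      · exact sInf_le P.2
      · apply le_sInf
        intro Q hQ
        have := hU.uniq ⟨Q, hQ⟩
        rw [Subtype.ext_iff] at this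
        rw [← this]
    rw [h1]
    exact P.2.1.1
  · intro hN
    have hmin : nilradical (X.presheaf.stalk x) ∈ minimalPrimes (X.presheaf.stalk x) := by
      refine ⟨⟨hN, bot_le⟩, ?_⟩
      rintro Q ⟨hQ, -⟩ hQN
      exact nilradical_le_prime Q
    refine ⟨⟨⟨⟨_, hmin⟩⟩, fun Q => ?_⟩⟩
    have h1 : nilradical (X.presheaf.stalk x) ≤ Q.1 := @nilradical_le_prime _ _ Q.1 Q.2.1.1
    exact Subtype.ext (le_antisymm (Q.2.2 ⟨hN, bot_le⟩ h1) h1)

end Groth.Agent.H8.Brnch
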