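import Mathlib
import Groth.Agent.Lib.Helper8.Hens.AtPrimeColim
import Groth.Agent.Lib.Helper8.Hens.Strict
import Groth.Agent.Lib.Helper8.Hens.StrictQuot
import Groth.Agent.Lib.Helper8.Hens.EtaleGU

/-!
# Geometric unibranchness from étale neighbourhoods (helper8)
-/

universe u
open IsLocalRing TensorProduct Polynomial

namespace Groth.Agent.H8.Brnch

open Groth.Agent.H8.Hens

open Groth.Agent.H4.IndEtCrit in
/-- The strict henselization of `R_p` is ind-étale over `R` (elementwise criterion). -/
theorem crit_strictHenselization_atPrime (R : Type u) [CommRing R] (p : Ideal R) [p.IsPrime]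
    [Algebra R (StrictHenselization (Localization.AtPrime p))]
    [IsScalarTower R (Localization.AtPrime p) (StrictHenselization (Localization.AtPrime p))] :
    Crit R (StrictHenselization (Localization.AtPrime p)) := by
  have h1 : Crit (Localization.AtPrime p) (StrictHenselization (Localization.AtPrime p)) := crit_H
  exact crit_of_isIndEtale (Groth.Agent.S0734.result R (Localization.AtPrime p) _
    (isIndEtale_of_crit (crit_localization_atPrime R p)) (isIndEtale_of_crit h1))

/-- A ring has prime nilradical iff it is nontrivial and nilpotent products have a nilpotent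
factor. -/
theorem isPrime_nilradical_iff (B : Type*) [CommRing B] :
    (nilradical B).IsPrime ↔ Nontrivial B ∧
      ∀ a b : B, IsNilpotent (a * b) → IsNilpotent a ∨ IsNilpotent b := by
  constructor
  · intro h
    refine ⟨?_, fun a b hab => ?_⟩
    · by_contra hN
      rw [not_nontrivial_iff_subsingleton] at hN
      exact h.ne_top (Ideal.eq_top_of_isUnit_mem _ (Submodule.zero_mem _) (by
        rw [Subsingleton.elim (0 : B) 1]; exact isUnit_one))
    · exact h.mem_or_mem (mem_nilradical.mpr hab)
  · rintro ⟨hN, h⟩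
    refine ⟨?_, fun {a b} hab => h a b (mem_nilradical.mp hab)⟩
    intro htop
    have : (1 : B) ∈ nilradical B := by rw [htop]; trivial
    exact not_isNilpotent_one (mem_nilradical.mp this)

theorem isPrime_nilradical_of_ringEquiv {B B' : Type*} [CommRing B] [CommRing B'] (e : B ≃+* B')
    (h : (nilradical B).IsPrime) : (nilradical B').IsPrime := by
  rw [isPrime_nilradical_iff] at h ⊢
  obtain ⟨hN, h⟩ := h
  haveI := hN
  refine ⟨e.injective.nontrivial, fun a b hab => ?_⟩
  have := h (e.symm a) (e.symm b) (by rw [← map_mul]; exact hab.map e.symm)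
  rcases this with h1 | h1
  · left; simpa using h1.map e
  · right; simpa using h1.map e

section Core

variable (R : Type u) [CommRing R] (p : Ideal R) [p.IsPrime]

open Groth.Agent.H4.IndEtCrit in
/-- If for all étale `R`-algebras `C` and primes `q'` over `p` the local ring `C_{q'}` has prime
nilradical, then `R_p` is geometrically unibranch. -/
theorem isGeomUnibranch_localization_of_forall_etale
    (H : ∀ (C : Type u) [CommRing C] [Algebra R C] [Algebra.Etale R C] (q' : Ideal C) [q'.IsPrime],
      q'.comap (algebraMap R C) = p → (nilradical (Localization.AtPrime q')).IsPrime) :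
    CAlg2.IsGeomUnibranch (Localization.AtPrime p) := by
  set Rp := Localization.AtPrime p
  set Ash := StrictHenselization Rp
  letI : Algebra R Ash := ((algebraMap Rp Ash).comp (algebraMap R Rp)).toAlgebra
  haveI : IsScalarTower R Rp Ash := IsScalarTower.of_algebraMap_eq fun _ => rfl
  haveI hS : Hensel.IsStrictHenselization Rp Ash := isStrictHenselization
  have hcrit : Crit R Ash := crit_strictHenselization_atPrime R p
  rw [UMP.isGeomUnibranch_iff (Ash := Ash), UMP.hasUniqueMinimalPrime_iff, isPrime_nilradical_iff]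
  refine ⟨inferInstance, fun a b hab => ?_⟩
  obtain ⟨n, hn⟩ := hab
  obtain ⟨C₁, _, _, _, g₁, c₁, rfl⟩ := hcrit.lift a
  obtain ⟨C₂, _, _, _, g₂, c₂, rfl⟩ := hcrit.lift b
  let g : C₁ ⊗[R] C₂ →ₐ[R] Ash := Algebra.TensorProduct.lift g₁ g₂ (fun _ _ => Commute.all _ _)
  have hg1 : g (c₁ ⊗ₜ 1) = g₁ c₁ := by simp [g]
  have hg2 : g (1 ⊗ₜ c₂) = g₂ c₂ := by simp [g]
  have hg0 : g (((c₁ ⊗ₜ[R] (1 : C₂)) * ((1 : C₁) ⊗ₜ[R] c₂)) ^ n) = 0 := by
    rw [map_pow, map_mul, hg1, hg2, hn]
  obtain ⟨C', _, _, _, h, g', hg', hh⟩ := hcrit.kill (C₁ ⊗[R] C₂) g _ hg0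
  set a' : C' := h (c₁ ⊗ₜ 1) with ha'
  set b' : C' := h (1 ⊗ₜ c₂) with hb'
  have hab' : (a' * b') ^ n = 0 := by rw [ha', hb', ← map_mul, ← map_pow]; exact hh
  have hga : g' a' = g₁ c₁ := by
    rw [ha', ← AlgHom.comp_apply, hg', hg1]
  have hgb : g' b' = g₂ c₂ := by
    rw [hb', ← AlgHom.comp_apply, hg', hg2]
  let q' : Ideal C' := (maximalIdeal Ash).comap g'.toRingHom
  haveI : q'.IsPrime := Ideal.comap_isPrime _ _
  have hq' : q'.comap (algebraMap R C') = p := by
    have h1 : q'.comap (algebraMap R C') = (maximalIdeal Ash).comap (algebraMap R Ash) := by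
      ext r
      simp only [q', Ideal.mem_comap]
      show g' (algebraMap R C' r) ∈ _ ↔ _
      rw [g'.commutes]
    rw [h1]
    have h2 : (maximalIdeal Ash).comap (algebraMap R Ash) =
        ((maximalIdeal Ash).comap (algebraMap Rp Ash)).comap (algebraMap R Rp) := by
      rw [Ideal.comap_comap, ← IsScalarTower.algebraMap_eq]
    rw [h2]
    have h3 : (maximalIdeal Ash).comap (algebraMap Rp Ash) = maximalIdeal Rp :=
      ((local_hom_TFAE (algebraMap Rp Ash)).out 0 4).mp (inferInstance : IsLocalHom (algebraMap Rp Ash))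
    rw [h3]
    exact IsLocalization.AtPrime.under_maximalIdeal Rp p
  have hprime := H C' q' hq'
  rw [isPrime_nilradical_iff] at hprime
  have hunit : ∀ s : q'.primeCompl, IsUnit (g'.toRingHom (s : C')) := by
    intro s
    by_contra hnu
    exact s.2 ((mem_maximalIdeal _).mpr hnu)
  let ψ : Localization.AtPrime q' →+* Ash := IsLocalization.lift (M := q'.primeCompl) hunit
  have hψ : ∀ c, ψ (algebraMap C' _ c) = g' c := fun c => IsLocalization.lift_eq _ _
  have hnil : IsNilpotent (algebraMap C' (Localization.AtPrime q') a' *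
      algebraMap C' (Localization.AtPrime q') b') := by
    refine ⟨n, ?_⟩
    rw [← map_mul, ← map_pow, hab', map_zero]
  rcases hprime.2 _ _ hnil with h1 | h1
  · left
    have := h1.map ψ
    rwa [hψ, hga] at this
  · right
    have := h1.map ψ
    rwa [hψ, hgb] at this

/-- Version for an arbitrary localization at `p`. -/
theorem isGeomUnibranch_of_forall_etale (Rp : Type u) [CommRing Rp] [Algebra R Rp]
    [IsLocalization.AtPrime Rp p] [IsLocalRing Rp]
    (H : ∀ (C : Type u) [CommRing C] [Algebra R C] [Algebra.Etale R C] (q' : Ideal C) [q'.IsPrime],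
      q'.comap (algebraMap R C) = p → (nilradical (Localization.AtPrime q')).IsPrime) :
    CAlg2.IsGeomUnibranch Rp := by
  let eR : Rp ≃ₐ[R] Localization.AtPrime p := IsLocalization.algEquiv p.primeCompl _ _
  exact isGeomUnibranch_of_ringEquiv eR.symm.toRingEquiv
    (isGeomUnibranch_localization_of_forall_etale R p H)

end Core

end Groth.Agent.H8.Brnch
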