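import Mathlib

/-!
# Maximal ideals of `S ⊗ B` for `S` local with separably closed residue field and `B` integral
(helper8)
-/

universe u
open TensorProduct IsLocalRing

namespace Groth.Agent.H8.Brnch

theorem jH_eq_zero_iff {Hs : Type*} [CommRing Hs] [IsLocalRing Hs] {Ω : Type*} [Field Ω]
    (jH : Hs →+* Ω) [IsLocalHom jH] (h : Hs) : jH h = 0 ↔ h ∈ maximalIdeal Hs := by
  constructor
  · intro h0
    rw [mem_maximalIdeal, mem_nonunits_iff]
    intro hu
    have := hu.map jH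
    rw [h0] at this
    exact not_isUnit_zero this
  · intro hm
    by_contra hne
    have hu : IsUnit (jH h) := isUnit_iff_ne_zero.mpr hne
    exact (mem_maximalIdeal _).mp hm (isUnit_of_map_unit jH h hu)

section Core

variable (R : Type u) [CommRing R] (Hs : Type u) [CommRing Hs] [IsLocalRing Hs] [Algebra R Hs]
  (B : Type u) [CommRing B] [Algebra R B] [Algebra.IsIntegral R B]
  (Ω : Type u) [Field Ω] [IsAlgClosed Ω] (jH : Hs →+* Ω)

/-- Ring maps `B → Ω` compatible with `jH` on `R`. -/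
def PtB : Type u := {ψ : B →+* Ω // ψ.comp (algebraMap R B) = jH.comp (algebraMap R Hs)}

variable {R Hs B Ω}

theorem comap_algebraMap_eq_maximalIdeal' (M : Ideal (Hs ⊗[R] B)) [hM : M.IsMaximal] :
    M.comap (algebraMap Hs (Hs ⊗[R] B)) = maximalIdeal Hs := by
  haveI : Algebra.IsIntegral Hs (Hs ⊗[R] B) := inferInstance
  have h1 : (M.comap (algebraMap Hs (Hs ⊗[R] B))).IsMaximal :=
    Ideal.isMaximal_comap_of_isIntegral_of_isMaximal M
  exact IsLocalRing.eq_maximalIdeal h1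

/-- For a maximal ideal `M` of `Hs ⊗ B`, the residue field `(Hs ⊗ B)/M` embeds uniquely into `Ω`
compatibly with `jH`. -/
theorem existsUnique_embedding [IsLocalHom jH] [IsSepClosed (ResidueField Hs)]
    (M : Ideal (Hs ⊗[R] B)) [hM : M.IsMaximal] :
    ∃! e : (Hs ⊗[R] B) ⧸ M →+* Ω,
      e.comp ((Ideal.Quotient.mk M).comp (algebraMap Hs (Hs ⊗[R] B))) = jH := by
  letI : Field ((Hs ⊗[R] B) ⧸ M) := Ideal.Quotient.field M
  set gH : Hs →+* (Hs ⊗[R] B) ⧸ M := (Ideal.Quotient.mk M).comp (algebraMap Hs (Hs ⊗[R] B)) with hgH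
  have hgker : ∀ h ∈ maximalIdeal Hs, gH h = 0 := by
    intro h hh
    rw [← comap_algebraMap_eq_maximalIdeal' M] at hh
    exact Ideal.Quotient.eq_zero_iff_mem.mpr hh
  have hjker : ∀ h ∈ maximalIdeal Hs, jH h = 0 := fun h hh => (jH_eq_zero_iff jH h).mpr hh
  let gbar : ResidueField Hs →+* (Hs ⊗[R] B) ⧸ M := Ideal.Quotient.lift (maximalIdeal Hs) gH hgker
  let jbar : ResidueField Hs →+* Ω := Ideal.Quotient.lift (maximalIdeal Hs) jH hjker
  letI : Algebra (ResidueField Hs) ((Hs ⊗[R] B) ⧸ M) := gbar.toAlgebra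
  letI : Algebra (ResidueField Hs) Ω := jbar.toAlgebra
  haveI : Algebra.IsIntegral Hs (Hs ⊗[R] B) := inferInstance
  haveI : Algebra.IsAlgebraic (ResidueField Hs) ((Hs ⊗[R] B) ⧸ M) := by
    refine ⟨fun x => ?_⟩
    obtain ⟨t, rfl⟩ := Ideal.Quotient.mk_surjective x
    obtain ⟨p, hpm, hp⟩ := Algebra.IsIntegral.isIntegral (R := Hs) t
    apply IsIntegral.isAlgebraic
    refine ⟨p.map (residue Hs), hpm.map _, ?_⟩
    rw [Polynomial.eval₂_map]
    have h1 : (algebraMap (ResidueField Hs) ((Hs ⊗[R] B) ⧸ M)).comp (residue Hs) = gH := by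
      ext h; rfl
    rw [h1, hgH, ← Polynomial.hom_eval₂, hp, map_zero]
  haveI : IsPurelyInseparable (ResidueField Hs) ((Hs ⊗[R] B) ⧸ M) := inferInstance
  let e₀ : (Hs ⊗[R] B) ⧸ M →ₐ[ResidueField Hs] Ω := IsAlgClosed.lift
  refine ⟨e₀.toRingHom, ?_, ?_⟩
  · ext h
    show e₀ (algebraMap (ResidueField Hs) _ (residue Hs h)) = jH h
    rw [e₀.commutes]
    rfl
  · intro e he
    apply IsPurelyInseparable.injective_comp_algebraMap (ResidueField Hs) ((Hs ⊗[R] B) ⧸ M) Ω
    show e.comp (algebraMap (ResidueField Hs) _) = e₀.toRingHom.comp (algebraMap (ResidueField Hs) _)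
    apply Ideal.Quotient.ringHom_ext
    ext h
    have h1 := congrArg (fun f => f h) he
    simp only [RingHom.comp_apply] at h1 ⊢
    show e (gH h) = e₀ (algebraMap (ResidueField Hs) _ (residue Hs h))
    rw [e₀.commutes]
    exact h1

variable [IsLocalHom jH] [IsSepClosed (ResidueField Hs)]

/-- The ring map `Hs ⊗ B → Ω` attached to a maximal ideal. -/
noncomputable def phiM (M : Ideal (Hs ⊗[R] B)) [hM : M.IsMaximal] : Hs ⊗[R] B →+* Ω :=
  (existsUnique_embedding jH M).choose.comp (Ideal.Quotient.mk M)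

theorem phiM_algebraMap (M : Ideal (Hs ⊗[R] B)) [hM : M.IsMaximal] (h : Hs) :
    phiM jH M (algebraMap Hs (Hs ⊗[R] B) h) = jH h :=
  congrArg (fun f => f h) (existsUnique_embedding jH M).choose_spec.1

theorem ker_phiM (M : Ideal (Hs ⊗[R] B)) [hM : M.IsMaximal] : RingHom.ker (phiM jH M) = M := by
  letI : Field ((Hs ⊗[R] B) ⧸ M) := Ideal.Quotient.field M
  ext t
  rw [RingHom.mem_ker, phiM, RingHom.comp_apply,
    map_eq_zero_iff _ (existsUnique_embedding jH M).choose.injective, Ideal.Quotient.eq_zero_iff_mem]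

/-- The point of `B` attached to a maximal ideal of `Hs ⊗ B`. -/
noncomputable def toPtB (M : MaximalSpectrum (Hs ⊗[R] B)) : PtB R Hs B Ω jH :=
  haveI := M.isMaximal
  ⟨(phiM jH M.asIdeal).comp (Algebra.TensorProduct.includeRight : B →ₐ[R] Hs ⊗[R] B).toRingHom, by
    ext r
    simp only [RingHom.comp_apply]
    show phiM jH M.asIdeal ((1 : Hs) ⊗ₜ[R] algebraMap R B r) = _
    have : (1 : Hs) ⊗ₜ[R] algebraMap R B r = algebraMap Hs (Hs ⊗[R] B) (algebraMap R Hs r) := by
      rw [Algebra.TensorProduct.algebraMap_apply, Algebra.algebraMap_self, RingHom.id_apply,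
        Algebra.algebraMap_eq_smul_one, Algebra.algebraMap_eq_smul_one, TensorProduct.smul_tmul]
    rw [this, phiM_algebraMap]⟩

theorem ringHom_ext_tensor {f g : Hs ⊗[R] B →+* Ω}
    (h1 : ∀ h : Hs, f (algebraMap Hs _ h) = g (algebraMap Hs _ h))
    (h2 : ∀ b : B, f ((1 : Hs) ⊗ₜ[R] b) = g ((1 : Hs) ⊗ₜ[R] b)) : f = g := by
  refine RingHom.ext fun t => ?_
  induction t with
  | zero => simp
  | add x y hx hy => rw [map_add, map_add, hx, hy]
  | tmul x b =>
    have : x ⊗ₜ[R] b = algebraMap Hs (Hs ⊗[R] B) x * ((1 : Hs) ⊗ₜ[R] b) := by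
      rw [Algebra.TensorProduct.algebraMap_apply, Algebra.algebraMap_self, RingHom.id_apply,
        Algebra.TensorProduct.tmul_mul_tmul, mul_one, one_mul]
    rw [this, map_mul, map_mul, h1, h2]

theorem toPtB_injective : Function.Injective (toPtB (R := R) (B := B) jH) := by
  intro M M' h
  haveI := M.isMaximal
  haveI := M'.isMaximal
  have h1 : phiM jH M.asIdeal = phiM jH M'.asIdeal := by
    apply ringHom_ext_tensor
    · intro x; rw [phiM_algebraMap, phiM_algebraMap]
    · intro b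
      exact congrArg (fun ψ : PtB R Hs B Ω jH => ψ.1 b) h
  apply MaximalSpectrum.ext
  rw [← ker_phiM jH M.asIdeal, ← ker_phiM jH M'.asIdeal, h1]

theorem toPtB_surjective : Function.Surjective (toPtB (R := R) (B := B) jH) := by
  rintro ⟨ψ, hψ⟩
  letI : Algebra R Ω := (jH.comp (algebraMap R Hs)).toAlgebra
  let jA : Hs →ₐ[R] Ω := { jH with commutes' := fun r => rfl }
  let ψA : B →ₐ[R] Ω := { ψ with commutes' := fun r => congrArg (fun f => f r) hψ }
  let φ : Hs ⊗[R] B →ₐ[R] Ω := Algebra.TensorProduct.lift jA ψA (fun _ _ => Commute.all _ _)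
  have hφH : ∀ h : Hs, φ (algebraMap Hs _ h) = jH h := by
    intro h
    rw [Algebra.TensorProduct.algebraMap_apply, Algebra.algebraMap_self, RingHom.id_apply]
    simp [φ, jA]
  have hφB : ∀ b : B, φ ((1 : Hs) ⊗ₜ[R] b) = ψ b := by
    intro b
    simp [φ, ψA]
  haveI hprime : (RingHom.ker φ.toRingHom).IsPrime := RingHom.ker_isPrime _
  have hmax : (RingHom.ker φ.toRingHom).IsMaximal := by
    haveI : Algebra.IsIntegral Hs (Hs ⊗[R] B) := inferInstance
    apply Ideal.isMaximal_of_isIntegral_of_isMaximal_comap (R := Hs)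
    have : (RingHom.ker φ.toRingHom).comap (algebraMap Hs (Hs ⊗[R] B)) = maximalIdeal Hs := by
      ext h
      rw [Ideal.mem_comap, RingHom.mem_ker]
      show φ (algebraMap Hs _ h) = 0 ↔ _
      rw [hφH, jH_eq_zero_iff]
    rw [this]
    exact maximalIdeal.isMaximal Hs
  refine ⟨⟨RingHom.ker φ.toRingHom, hmax⟩, ?_⟩
  apply Subtype.ext
  haveI := hmax
  -- `φ` factors through the quotient, and the factorization is the canonical embedding
  let φbar : (Hs ⊗[R] B) ⧸ RingHom.ker φ.toRingHom →+* Ω :=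
    Ideal.Quotient.lift _ φ.toRingHom (fun t ht => ht)
  have hφbar : φbar.comp ((Ideal.Quotient.mk _).comp (algebraMap Hs (Hs ⊗[R] B))) = jH := by
    ext h
    exact hφH h
  have huniq := (existsUnique_embedding jH (RingHom.ker φ.toRingHom)).unique
    (existsUnique_embedding jH (RingHom.ker φ.toRingHom)).choose_spec.1 hφbar
  show (phiM jH (RingHom.ker φ.toRingHom)).comp _ = ψ
  ext b
  rw [RingHom.comp_apply, phiM, huniq]
  exact hφB b

/-- Maximal ideals of `Hs ⊗ B` correspond to points of `B` in `Ω` over `jH`. -/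
noncomputable def equivPtB : MaximalSpectrum (Hs ⊗[R] B) ≃ PtB R Hs B Ω jH :=
  Equiv.ofBijective (toPtB jH) ⟨toPtB_injective jH, toPtB_surjective jH⟩

end Core

section Sigma

variable {R : Type u} [CommRing R] [IsLocalRing R] {B : Type u} [CommRing B] [Algebra R B]
  [Algebra.IsIntegral R B] {Ω : Type u} [Field Ω] (ρ : R →+* Ω) [IsLocalHom ρ]

theorem ker_isMaximal_of_comp_eq (ψ : B →+* Ω) (hψ : ψ.comp (algebraMap R B) = ρ) :
    (RingHom.ker ψ).IsMaximal := by
  haveI : (RingHom.ker ψ).IsPrime := RingHom.ker_isPrime _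
  apply Ideal.isMaximal_of_isIntegral_of_isMaximal_comap (R := R)
  have : (RingHom.ker ψ).comap (algebraMap R B) = maximalIdeal R := by
    ext r
    rw [Ideal.mem_comap, RingHom.mem_ker, ← RingHom.comp_apply, hψ, jH_eq_zero_iff]
  rw [this]
  exact maximalIdeal.isMaximal R

/-- Points of `B` in `Ω` over `ρ` correspond to pairs of a maximal ideal and an embedding of its
residue field. -/
noncomputable def equivSigma :
    (Σ m' : MaximalSpectrum B, {σ : B ⧸ m'.asIdeal →+* Ω //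
      σ.comp ((Ideal.Quotient.mk m'.asIdeal).comp (algebraMap R B)) = ρ}) ≃
      {ψ : B →+* Ω // ψ.comp (algebraMap R B) = ρ} := by
  refine Equiv.ofBijective
    (fun x => ⟨x.2.1.comp (Ideal.Quotient.mk x.1.asIdeal), by
      rw [RingHom.comp_assoc]; exact x.2.2⟩) ⟨?_, ?_⟩
  · rintro ⟨⟨m₁, hm₁⟩, ⟨σ₁, hσ₁⟩⟩ ⟨⟨m₂, hm₂⟩, ⟨σ₂, hσ₂⟩⟩ h
    have h0 : σ₁.comp (Ideal.Quotient.mk m₁) = σ₂.comp (Ideal.Quotient.mk m₂) :=
      congrArg Subtype.val h
    have hker : ∀ (m : Ideal B) (hm : m.IsMaximal) (σ : B ⧸ m →+* Ω),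
        RingHom.ker (σ.comp (Ideal.Quotient.mk m)) = m := by
      intro m hm σ
      letI : Field (B ⧸ m) := Ideal.Quotient.field m
      ext b
      rw [RingHom.mem_ker, RingHom.comp_apply, map_eq_zero_iff _ σ.injective,
        Ideal.Quotient.eq_zero_iff_mem]
    have hm : m₁ = m₂ := by
      rw [← hker m₁ hm₁ σ₁, ← hker m₂ hm₂ σ₂, h0]
    subst hm
    have hσ : σ₁ = σ₂ := Ideal.Quotient.ringHom_ext h0
    subst hσ
    rfl
  · rintro ⟨ψ, hψ⟩
    have hmax := ker_isMaximal_of_comp_eq ρ ψ hψ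
    refine ⟨⟨⟨RingHom.ker ψ, hmax⟩, ⟨Ideal.Quotient.lift (RingHom.ker ψ) ψ (fun b hb => hb), ?_⟩⟩, ?_⟩
    · ext r
      simp only [RingHom.comp_apply, Ideal.Quotient.lift_mk]
      exact congrArg (fun f => f r) hψ
    · apply Subtype.ext
      ext b
      simp

end Sigma

end Groth.Agent.H8.Brnch
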