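import Mathlib
import Groth.Agent.Lib.Helper8.Hens.Henselization

/-!
# Maximal ideals of `A^h ⊗ B` for `B` integral over `A` (helper8)
-/

universe u
open TensorProduct IsLocalRing

namespace Groth.Agent.H8.Brnch

open Groth.Agent.H8.Hens

variable (R : Type u) [CommRing R] [IsLocalRing R] (B : Type u) [CommRing B] [Algebra R B]
  [Algebra.IsIntegral R B]

local notation "Hh" => Henselization R

/-- The inclusion `B → A^h ⊗ B`. -/
noncomputable abbrev incB : B →ₐ[R] Hh ⊗[R] B := Algebra.TensorProduct.includeRight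

variable {R B}

theorem comap_algebraMap_eq_maximalIdeal (M : Ideal (Hh ⊗[R] B)) [hM : M.IsMaximal] :
    M.comap (algebraMap Hh (Hh ⊗[R] B)) = maximalIdeal Hh := by
  haveI : Algebra.IsIntegral Hh (Hh ⊗[R] B) := inferInstance
  have h1 : (M.comap (algebraMap Hh (Hh ⊗[R] B))).IsMaximal :=
    Ideal.isMaximal_comap_of_isIntegral_of_isMaximal M
  exact IsLocalRing.eq_maximalIdeal h1

/-- Every element of `A^h ⊗ B` is congruent to an element of `B` modulo the maximal ideal of
`A^h`. -/
theorem exists_sub_mem_map (t : Hh ⊗[R] B) :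
    ∃ b : B, t - incB R B b ∈ (maximalIdeal Hh).map (algebraMap Hh (Hh ⊗[R] B)) := by
  haveI := isHenselization (R := R)
  induction t with
  | zero => exact ⟨0, by simp⟩
  | add x y hx hy =>
    obtain ⟨b, hb⟩ := hx
    obtain ⟨b', hb'⟩ := hy
    refine ⟨b + b', ?_⟩
    have : x + y - incB R B (b + b') = (x - incB R B b) + (y - incB R B b') := by
      rw [map_add]; ring
    rw [this]
    exact Ideal.add_mem _ hb hb'
  | tmul x b =>
    obtain ⟨r, hr⟩ := residue_surjective_of_isHenselization (R := R) Hh x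
    refine ⟨r • b, ?_⟩
    have h1 : x ⊗ₜ[R] b - incB R B (r • b) =
        algebraMap Hh (Hh ⊗[R] B) (x - algebraMap R Hh r) * ((1 : Hh) ⊗ₜ[R] b) := by
      rw [Algebra.TensorProduct.algebraMap_apply, Algebra.algebraMap_self, RingHom.id_apply,
        Algebra.TensorProduct.tmul_mul_tmul, mul_one, one_mul, TensorProduct.sub_tmul]
      congr 1
      show (1 : Hh) ⊗ₜ[R] (r • b) = _
      rw [TensorProduct.tmul_smul, TensorProduct.smul_tmul', Algebra.smul_def, mul_one]
    rw [h1]
    exact Ideal.mul_mem_right _ _ (Ideal.mem_map_of_mem _ hr)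

theorem map_maximalIdeal_le (M : Ideal (Hh ⊗[R] B)) [hM : M.IsMaximal] :
    (maximalIdeal Hh).map (algebraMap Hh (Hh ⊗[R] B)) ≤ M := by
  rw [Ideal.map_le_iff_le_comap, comap_algebraMap_eq_maximalIdeal M]

theorem isMaximal_comap_incB (M : Ideal (Hh ⊗[R] B)) [hM : M.IsMaximal] :
    (M.comap (incB R B).toRingHom).IsMaximal := by
  rw [Ideal.isMaximal_iff]
  refine ⟨fun h => hM.ne_top ((Ideal.eq_top_iff_one M).mpr (by
    have : incB R B 1 ∈ M := h
    rwa [map_one] at this)), ?_⟩
  intro J b hJ hb hbJ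
  have hb' : incB R B b ∉ M := hb
  obtain ⟨t, s, hs, hts⟩ := hM.exists_inv hb'
  obtain ⟨b', hb'⟩ := exists_sub_mem_map t
  have h1 : incB R B (b' * b - 1) ∈ M := by
    have e : incB R B (b' * b - 1) = (t * incB R B b + s - 1) - s -
        (t - incB R B b') * incB R B b := by
      rw [map_sub, map_mul, map_one]; ring
    rw [e]
    refine M.sub_mem (M.sub_mem ?_ hs) (M.mul_mem_right _ (map_maximalIdeal_le M hb'))
    rw [hts, sub_self]; exact M.zero_mem
  have h2 : b' * b - 1 ∈ J := hJ h1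
  have h3 : b' * b ∈ J := J.mul_mem_left _ hbJ
  have : (1 : B) = b' * b - (b' * b - 1) := by ring
  rw [this]
  exact J.sub_mem h3 h2

theorem comap_incB_injective {M M' : Ideal (Hh ⊗[R] B)} [hM : M.IsMaximal] [hM' : M'.IsMaximal]
    (h : M.comap (incB R B).toRingHom = M'.comap (incB R B).toRingHom) : M = M' := by
  have key : ∀ (N N' : Ideal (Hh ⊗[R] B)) [N.IsMaximal] [N'.IsMaximal],
      N.comap (incB R B).toRingHom = N'.comap (incB R B).toRingHom → N ≤ N' := by
    intro N N' _ _ hNN' t ht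
    obtain ⟨b, hb⟩ := exists_sub_mem_map t
    have h1 : incB R B b ∈ N := by
      have : incB R B b = t - (t - incB R B b) := by ring
      rw [this]
      exact N.sub_mem ht (map_maximalIdeal_le N hb)
    have h2 : b ∈ N'.comap (incB R B).toRingHom := by rw [← hNN']; exact h1
    have : t = (t - incB R B b) + incB R B b := by ring
    rw [this]
    exact N'.add_mem (map_maximalIdeal_le N' hb) h2
  exact le_antisymm (key M M' h) (key M' M h.symm)

theorem exists_maximal_comap_eq (m' : Ideal B) [hm' : m'.IsMaximal] :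
    ∃ M : Ideal (Hh ⊗[R] B), M.IsMaximal ∧ M.comap (incB R B).toRingHom = m' := by
  have hne : m'.map (incB R B).toRingHom ≠ ⊤ := by
    intro htop
    haveI : Nontrivial (B ⧸ m') := Ideal.Quotient.nontrivial_iff.mpr hm'.ne_top
    haveI : Nontrivial (Hh ⊗[R] (B ⧸ m')) := Module.FaithfullyFlat.lTensor_nontrivial R Hh _
    let φ : Hh ⊗[R] B →ₐ[R] Hh ⊗[R] (B ⧸ m') :=
      Algebra.TensorProduct.map (AlgHom.id R Hh) (Ideal.Quotient.mkₐ R m')
    have hle : m'.map (incB R B).toRingHom ≤ RingHom.ker φ.toRingHom := by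
      rw [Ideal.map_le_iff_le_comap]
      intro b hb
      rw [Ideal.mem_comap, RingHom.mem_ker]
      show φ ((1 : Hh) ⊗ₜ[R] b) = 0
      simp only [φ, Algebra.TensorProduct.map_tmul, AlgHom.id_apply, Ideal.Quotient.mkₐ_eq_mk]
      rw [Ideal.Quotient.eq_zero_iff_mem.mpr hb, TensorProduct.tmul_zero]
    have h1 : (1 : Hh ⊗[R] B) ∈ RingHom.ker φ.toRingHom := hle (htop ▸ Submodule.mem_top)
    rw [RingHom.mem_ker, map_one] at h1
    exact one_ne_zero h1
  obtain ⟨M, hM, hle⟩ := Ideal.exists_le_maximal _ hne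
  refine ⟨M, hM, ?_⟩
  haveI := hM
  have h1 : m' ≤ M.comap (incB R B).toRingHom := Ideal.map_le_iff_le_comap.mp hle
  exact (hm'.eq_of_le (isMaximal_comap_incB M).ne_top h1).symm

/-- Maximal ideals of `A^h ⊗ B` correspond to maximal ideals of `B`. -/
noncomputable def equivMaximalSpectrum :
    MaximalSpectrum (Hh ⊗[R] B) ≃ MaximalSpectrum B := by
  refine Equiv.ofBijective
    (fun M => ⟨M.asIdeal.comap (incB R B).toRingHom,
      isMaximal_comap_incB (hM := M.isMaximal) M.asIdeal⟩) ⟨?_, ?_⟩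
  · intro M M' h
    haveI := M.isMaximal
    haveI := M'.isMaximal
    apply MaximalSpectrum.ext
    exact comap_incB_injective (congrArg MaximalSpectrum.asIdeal h)
  · rintro ⟨m', hm'⟩
    obtain ⟨M, hM, hMm'⟩ := exists_maximal_comap_eq (R := R) m'
    exact ⟨⟨M, hM⟩, MaximalSpectrum.ext hMm'⟩

end Groth.Agent.H8.Brnch
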