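import Mathlib
import Groth.Agent.Lib.Helper8.Hens.Normal
import Groth.Agent.Lib.Helper8.Hens.IndEtale

/-!
# Idempotents of `H ⊗ Q` come from `H ⊗ A'` (helper8)

`H = H R K` a (strict) henselization, `Q` a localization of `R`, `A'` the integral closure of `R`
in `Q`.
-/

universe u
open TensorProduct Polynomial

namespace Groth.Agent.H8.Brnch

open Groth.Agent.H8.Hens

section Incomp

open Groth.Agent.H4.IndEtCrit in
/-- Incomparability of primes over the same prime for ind-étale algebras. -/
theorem eq_of_le_of_comap_eq_of_crit {A B : Type u} [CommRing A] [CommRing B] [Algebra A B]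
    (hc : Crit A B) {P P' : Ideal B} [P.IsPrime] [P'.IsPrime] (hle : P ≤ P')
    (hco : P.comap (algebraMap A B) = P'.comap (algebraMap A B)) : P = P' := by
  by_contra hne
  have hnle : ¬ P' ≤ P := fun h => hne (le_antisymm hle h)
  obtain ⟨x, hx', hx⟩ := Set.not_subset.mp hnle
  obtain ⟨C, _, _, _, g, c, rfl⟩ := hc.lift x
  let q : Ideal C := P.comap g.toRingHom
  let q' : Ideal C := P'.comap g.toRingHom
  haveI : q.IsPrime := Ideal.comap_isPrime _ _
  haveI : q'.IsPrime := Ideal.comap_isPrime _ _
  have hqq' : q ≤ q' := Ideal.comap_mono hle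
  have hunder : q.under A = q'.under A := by
    have h1 : ∀ I : Ideal B, (I.comap g.toRingHom).under A = I.comap (algebraMap A B) := by
      intro I
      ext a
      simp only [Ideal.under, Ideal.mem_comap]
      show g (algebraMap A C a) ∈ I ↔ _
      rw [g.commutes]
    rw [h1, h1, hco]
  have := Algebra.QuasiFinite.eq_of_le_of_under_eq (R := A) q q' hqq' hunder
  apply hx
  have hc' : c ∈ q' := hx'
  rw [← this] at hc'
  exact hc'

end Incomp

section Stage

variable {R : Type u} {K : Type u} [CommRing R] [Field K] [Algebra R K]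

theorem EtPt.toIntegralClosure_bijective (i : EtPt R K) (B : Type*) [CommRing B] [Algebra R B] :
    Function.Bijective (TensorProduct.toIntegralClosure R i.Loc B) :=
  TensorProduct.toIntegralClosure_bijective_of_tower (S := i.Ring) (T := i.Loc)
    TensorProduct.toIntegralClosure_bijective_of_smooth
    (TensorProduct.toIntegralClosure_bijective_of_isLocalization
      (ptIdeal i.pt).primeCompl)

end Stage

section Idem

variable {R : Type u} {K : Type u} [CommRing R] [Field K] [Algebra R K]
  (W : Submonoid R) (Q : Type u) [CommRing Q] [Algebra R Q] [IsLocalization W Q]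

/-- The map `H ⊗ A' → H ⊗ Q`. -/
noncomputable abbrev iota : H R K ⊗[R] integralClosure R Q →ₐ[R] H R K ⊗[R] Q :=
  Algebra.TensorProduct.map (AlgHom.id R (H R K)) (integralClosure R Q).val

include W in
theorem exists_of_isIdempotentElem (ε : H R K ⊗[R] Q) (hε : IsIdempotentElem ε) :
    ∃ t : H R K ⊗[R] integralClosure R Q, iota Q t = ε := by
  haveI hloc : IsLocalization (Algebra.algebraMapSubmonoid (H R K) W) (H R K ⊗[R] Q) :=
    inferInstance
  obtain ⟨x, w, rfl⟩ := IsLocalization.exists_mk'_eq (Algebra.algebraMapSubmonoid (H R K) W) ε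
  obtain ⟨w₀, hw₀, hw⟩ := w.2
  -- the idempotent equation in `H`
  have h1 : IsLocalization.mk' (H R K ⊗[R] Q) (x * x) (w * w) =
      IsLocalization.mk' (H R K ⊗[R] Q) x w := by
    rw [IsLocalization.mk'_mul]; exact hε
  rw [IsLocalization.mk'_eq_iff_eq, IsLocalization.eq_iff_exists
    (Algebra.algebraMapSubmonoid (H R K) W)] at h1
  obtain ⟨c, hc⟩ := h1
  obtain ⟨c₀, hc₀, hcc⟩ := c.2
  -- pass to a stage
  obtain ⟨k, x', rfl⟩ := H.exists_of x
  have hE : H.of k (algebraMap R k.Loc c₀ * (algebraMap R k.Loc w₀ * (x' * x')) -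
      algebraMap R k.Loc c₀ * (algebraMap R k.Loc w₀ * algebraMap R k.Loc w₀ * x')) = 0 := by
    rw [map_sub, map_mul, map_mul, map_mul, map_mul, map_mul, map_mul, ← H.algebraMap_eq,
      ← H.algebraMap_eq, sub_eq_zero]
    rw [← hcc, ← hw] at hc
    simp only [Submonoid.coe_mul] at hc
    rw [← hw] at hc
    exact hc
  obtain ⟨j, hkj, hj⟩ := H.of_eq_zero hE
  set x'' := EtPt.trans hkj x' with hx''
  have hj' : algebraMap R j.Loc c₀ * (algebraMap R j.Loc w₀ * (x'' * x'')) =
      algebraMap R j.Loc c₀ * (algebraMap R j.Loc w₀ * algebraMap R j.Loc w₀ * x'') := by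
    rw [← sub_eq_zero]
    have := hj
    rw [map_sub, map_mul, map_mul, map_mul, map_mul, map_mul, map_mul, AlgHom.commutes,
      AlgHom.commutes] at this
    exact this
  -- the idempotent at the stage `j`
  haveI hlocj : IsLocalization (Algebra.algebraMapSubmonoid j.Loc W) (j.Loc ⊗[R] Q) :=
    inferInstance
  let wj : Algebra.algebraMapSubmonoid j.Loc W := ⟨algebraMap R j.Loc w₀, w₀, hw₀, rfl⟩
  let cj : Algebra.algebraMapSubmonoid j.Loc W := ⟨algebraMap R j.Loc c₀, c₀, hc₀, rfl⟩
  set zj : j.Loc ⊗[R] Q := IsLocalization.mk' (j.Loc ⊗[R] Q) x'' wj with hzj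
  have hzj_idem : IsIdempotentElem zj := by
    show zj * zj = zj
    rw [hzj, ← IsLocalization.mk'_mul, IsLocalization.mk'_eq_iff_eq,
      IsLocalization.eq_iff_exists (Algebra.algebraMapSubmonoid j.Loc W)]
    exact ⟨cj, hj'⟩
  have hzj_int : IsIntegral j.Loc zj := by
    refine ⟨X ^ 2 - X, monic_X_pow_sub (by simp), ?_⟩
    rw [eval₂_sub, eval₂_pow, eval₂_X, pow_two, hzj_idem.eq, sub_self]
  obtain ⟨tj, htj⟩ := (EtPt.toIntegralClosure_bijective j Q).2 ⟨zj, hzj_int⟩
  have htj' : Algebra.TensorProduct.map (AlgHom.id R j.Loc) (integralClosure R Q).val tj = zj := by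
    have := congrArg Subtype.val htj
    exact this
  refine ⟨Algebra.TensorProduct.map (H.ofₐ j) (AlgHom.id R (integralClosure R Q)) tj, ?_⟩
  have hcomp : (iota Q).comp
      (Algebra.TensorProduct.map (H.ofₐ j) (AlgHom.id R (integralClosure R Q))) =
      (Algebra.TensorProduct.map (H.ofₐ j) (AlgHom.id R Q)).comp
        (Algebra.TensorProduct.map (AlgHom.id R j.Loc) (integralClosure R Q).val) := by
    ext <;> simp
  have h2 := congrArg (fun f => f tj) hcomp
  simp only [AlgHom.comp_apply] at h2
  rw [h2, htj']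
  rw [IsLocalization.eq_mk'_iff_mul_eq]
  have h3 : (algebraMap (H R K) (H R K ⊗[R] Q)) (w : H R K) =
      Algebra.TensorProduct.map (H.ofₐ j) (AlgHom.id R Q)
        (algebraMap j.Loc (j.Loc ⊗[R] Q) (wj : j.Loc)) := by
    rw [Algebra.TensorProduct.algebraMap_apply, Algebra.TensorProduct.algebraMap_apply,
      Algebra.TensorProduct.map_tmul, ← hw]
    simp [wj]
  have h4 : (algebraMap (H R K) (H R K ⊗[R] Q)) (H.of k x') =
      Algebra.TensorProduct.map (H.ofₐ j) (AlgHom.id R Q)
        (algebraMap j.Loc (j.Loc ⊗[R] Q) x'') := by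
    rw [Algebra.TensorProduct.algebraMap_apply, Algebra.TensorProduct.algebraMap_apply,
      Algebra.TensorProduct.map_tmul, hx'']
    simp [H.of_trans]
  rw [h3, h4, ← map_mul, hzj, IsLocalization.mk'_spec]

end Idem

end Groth.Agent.H8.Brnch
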