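import Mathlib

/-!
# Reduced zero-dimensional rings; primes of the total ring of fractions (helper8)
-/

universe u

namespace Groth.Agent.H8.Brnch

section ZeroDim

variable {Z : Type*} [CommRing Z]

/-- In a reduced ring, an element of a minimal prime is killed by an element outside it. -/
theorem exists_notMem_mul_eq_zero [IsReduced Z] {M : Ideal Z} (hM : M ∈ minimalPrimes Z) {x : Z}
    (hx : x ∈ M) : ∃ s ∉ M, s * x = 0 := by
  haveI := hM.1.1
  have h1 := IsLocalization.AtPrime.radical_map_of_mem_minimalPrimes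
    (A := Localization.AtPrime M) M ⊥ hM
  have h2 : algebraMap Z (Localization.AtPrime M) x ∈
      (Ideal.map (algebraMap Z (Localization.AtPrime M)) ⊥).radical := by
    rw [h1]; exact Ideal.mem_map_of_mem _ hx
  rw [Ideal.map_bot] at h2
  obtain ⟨n, hn⟩ := h2
  rw [Ideal.mem_bot, ← map_pow, IsLocalization.map_eq_zero_iff M.primeCompl] at hn
  obtain ⟨s, hs⟩ := hn
  refine ⟨s, s.2, ?_⟩
  have h3 : ((s : Z) * x) ^ (n + 1) = 0 := by
    have : ((s : Z) * x) ^ (n + 1) = (s : Z) ^ n * x * ((s : Z) * x ^ n) := by ring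
    rw [this, hs, mul_zero]
  exact IsReduced.eq_zero _ ⟨n + 1, h3⟩

/-- In a reduced ring all of whose primes are maximal, every element `x` satisfies `x = a x²`. -/
theorem exists_eq_mul_sq [IsReduced Z]
    (hdim : ∀ P P' : Ideal Z, P.IsPrime → P'.IsPrime → P ≤ P' → P = P') (x : Z) :
    ∃ a : Z, x = a * x ^ 2 := by
  have htop : Ideal.span {x} ⊔ (Ideal.span {x}).annihilator = ⊤ := by
    by_contra hne
    obtain ⟨M, hMmax, hM⟩ := Ideal.exists_le_maximal _ hne
    have hMmin : M ∈ minimalPrimes Z := by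
      refine ⟨⟨hMmax.isPrime, bot_le⟩, ?_⟩
      rintro P ⟨hP, -⟩ hPM
      exact (hdim P M hP hMmax.isPrime hPM).ge
    have hx : x ∈ M := hM (Ideal.mem_sup_left (Ideal.subset_span rfl))
    obtain ⟨s, hs, hsx⟩ := exists_notMem_mul_eq_zero hMmin hx
    apply hs
    apply hM
    apply Ideal.mem_sup_right
    rw [Submodule.mem_annihilator]
    intro y hy
    obtain ⟨c, rfl⟩ := Ideal.mem_span_singleton'.mp hy
    rw [smul_eq_mul, mul_comm c x, ← mul_assoc, hsx, zero_mul]
  have h1 : (1 : Z) ∈ Ideal.span {x} ⊔ (Ideal.span {x}).annihilator := by rw [htop]; trivial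
  obtain ⟨y, hy, b, hb, hyb⟩ := Submodule.mem_sup.mp h1
  obtain ⟨a, rfl⟩ := Ideal.mem_span_singleton'.mp hy
  have hbx : b * x = 0 := by
    rw [Submodule.mem_annihilator] at hb
    exact hb x (Ideal.subset_span rfl)
  refine ⟨a, ?_⟩
  calc x = (a * x + b) * x := by rw [hyb, one_mul]
    _ = a * x ^ 2 + b * x := by ring
    _ = a * x ^ 2 := by rw [hbx, add_zero]

/-- In a reduced ring all of whose primes are maximal, distinct primes are separated by an
idempotent. -/
theorem exists_idempotent_separating [IsReduced Z]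
    (hdim : ∀ P P' : Ideal Z, P.IsPrime → P'.IsPrime → P ≤ P' → P = P')
    {P₁ P₂ : Ideal Z} (h₁ : P₁.IsPrime) (h₂ : P₂.IsPrime) (hne : P₁ ≠ P₂) :
    ∃ e : Z, IsIdempotentElem e ∧ e ∈ P₁ ∧ 1 - e ∈ P₂ := by
  have hnle : ¬ P₁ ≤ P₂ := fun h => hne (hdim P₁ P₂ h₁ h₂ h)
  obtain ⟨x, hx1, hx2⟩ := Set.not_subset.mp hnle
  obtain ⟨a, ha⟩ := exists_eq_mul_sq hdim x
  have he : IsIdempotentElem (a * x) := by
    show a * x * (a * x) = a * x
    calc a * x * (a * x) = a * (a * x ^ 2) := by ring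
      _ = a * x := by rw [← ha]
  refine ⟨a * x, he, P₁.mul_mem_left _ hx1, ?_⟩
  have h1 : a * x * (1 - a * x) = 0 := by rw [mul_sub, mul_one, he.eq, sub_self]
  have h2 : a * x ∉ P₂ := by
    intro h
    apply hx2
    have : x = a * x * x := by rw [mul_assoc, ← pow_two]; exact ha
    rw [this]
    exact P₂.mul_mem_right _ h
  exact (h₂.mem_or_mem (h1 ▸ P₂.zero_mem)).resolve_left h2

end ZeroDim

section Frac

variable {R : Type*} [CommRing R]

/-- In a reduced ring, a zero divisor lies in a minimal prime. -/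
theorem exists_minimalPrime_of_notMem_nonZeroDivisors [IsReduced R] {x : R}
    (hx : x ∉ nonZeroDivisors R) : ∃ p ∈ minimalPrimes R, x ∈ p := by
  rw [mem_nonZeroDivisors_iff_right] at hx
  push Not at hx
  obtain ⟨y, hxy, hy⟩ := hx
  have h1 : y ∉ sInf (minimalPrimes R) := by
    have h2 : sInf (minimalPrimes R) = nilradical R := Ideal.sInf_minimalPrimes
    rw [h2, nilradical_eq_zero]
    exact hy
  rw [Submodule.mem_sInf] at h1
  push Not at h1
  obtain ⟨p, hp, hyp⟩ := h1
  refine ⟨p, hp, ?_⟩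
  have : y * x ∈ p := by rw [hxy]; exact p.zero_mem
  exact (hp.1.1.mem_or_mem this).resolve_left hyp

/-- In a reduced ring with finitely many minimal primes, a prime ideal consisting of zero divisors
is a minimal prime. -/
theorem mem_minimalPrimes_of_disjoint_nonZeroDivisors [IsReduced R]
    (hfin : (minimalPrimes R).Finite) {p : Ideal R} (hp : p.IsPrime)
    (hdisj : Disjoint (p : Set R) (nonZeroDivisors R)) : p ∈ minimalPrimes R := by
  classical
  have hsub : (p : Set R) ⊆ ⋃ q ∈ hfin.toFinset, (q : Set R) := by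
    intro x hx
    have hx' : x ∉ nonZeroDivisors R := fun h => Set.disjoint_left.mp hdisj hx h
    obtain ⟨q, hq, hxq⟩ := exists_minimalPrime_of_notMem_nonZeroDivisors hx'
    exact Set.mem_biUnion (hfin.mem_toFinset.mpr hq) hxq
  obtain ⟨q, hq, hpq⟩ := (Ideal.subset_union_prime (s := hfin.toFinset) (f := fun q => q)
    ⊥ ⊥ (fun q hq _ _ => (hfin.mem_toFinset.mp hq).1.1)).mp hsub
  have hqmin := hfin.mem_toFinset.mp hq
  obtain ⟨q', hq', hq'p⟩ := Ideal.exists_minimalPrimes_le (I := ⊥) (J := p) bot_le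
  have h1 : q' ≤ q := hq'p.trans hpq
  have h2 : q ≤ q' := hqmin.2 hq'.1 h1
  have h3 : p = q := le_antisymm hpq (h2.trans hq'p)
  rw [h3]; exact hqmin

end Frac

end Groth.Agent.H8.Brnch
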