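import Mathlib
import Groth.Agent.Lib.Helper8.Brnch.IdemDescent
import Groth.Agent.Lib.Helper8.Brnch.ZeroDim
import Groth.Agent.Lib.Helper8.Hens.IntegralHens
import Groth.Agent.Lib.Helper8.Hens.Nilrad

/-!
# Minimal primes of a henselization and maximal ideals of `H ⊗ A'` (helper8)
-/

universe u
open TensorProduct Polynomial

namespace Groth.Agent.H8.Brnch

open Groth.Agent.H8.Hens

variable (R : Type u) (K : Type u) [CommRing R] [Field K] [Algebra R K]

/-- `H ⊗ Frac R`. -/
abbrev QS : Type u := H R K ⊗[R] FractionRing R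

/-- `H ⊗ A'`, `A'` the integral closure of `R` in its total ring of fractions. -/
abbrev TT : Type u := H R K ⊗[R] integralClosure R (FractionRing R)

instance : IsLocalization (Algebra.algebraMapSubmonoid (H R K) (nonZeroDivisors R)) (QS R K) :=
  inferInstance

variable {R K}

theorem algebraMapSubmonoid_le_nonZeroDivisors :
    Algebra.algebraMapSubmonoid (H R K) (nonZeroDivisors R) ≤ nonZeroDivisors (H R K) := by
  rintro _ ⟨r, hr, rfl⟩
  rw [mem_nonZeroDivisors_iff_right]
  intro x hx
  have h1 : Function.Injective (fun y : H R K => r • y) := by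
    have := Module.Flat.isSMulRegular_of_nonZeroDivisors (M := H R K) hr
    exact this
  apply h1
  simp only [smul_zero]
  rw [Algebra.smul_def, mul_comm]
  exact hx

theorem injective_algebraMap_QS : Function.Injective (algebraMap (H R K) (QS R K)) :=
  IsLocalization.injective (QS R K) algebraMapSubmonoid_le_nonZeroDivisors

theorem isReduced_H [IsReduced R] : IsReduced (H R K) := by
  rw [← nilradical_eq_bot_iff, ← H.nilradical_eq, nilradical_eq_zero]
  exact Ideal.map_bot

theorem isReduced_QS [IsReduced R] : IsReduced (QS R K) := by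
  haveI := isReduced_H (R := R) (K := K)
  exact isReduced_localizationPreserves
    (Algebra.algebraMapSubmonoid (H R K) (nonZeroDivisors R)) (QS R K) inferInstance

/-- The contraction to `R` of a prime of `H ⊗ Frac R` is a minimal prime. -/
theorem comap_mem_minimalPrimes [IsReduced R] (hfin : (minimalPrimes R).Finite)
    (P : Ideal (QS R K)) [P.IsPrime] :
    (P.comap (algebraMap (H R K) (QS R K))).comap (algebraMap R (H R K)) ∈ minimalPrimes R := by
  apply mem_minimalPrimes_of_disjoint_nonZeroDivisors hfin (Ideal.comap_isPrime _ _)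
  rw [Set.disjoint_left]
  intro r hr hr'
  have h1 := ((IsLocalization.isPrime_iff_isPrime_disjoint
    (Algebra.algebraMapSubmonoid (H R K) (nonZeroDivisors R)) (QS R K) P).mp inferInstance).2
  exact Set.disjoint_left.mp h1 ⟨r, hr', rfl⟩ hr

/-- All primes of `H ⊗ Frac R` are maximal. -/
theorem eq_of_le_QS [IsReduced R] (hfin : (minimalPrimes R).Finite)
    (P P' : Ideal (QS R K)) (hP : P.IsPrime) (hP' : P'.IsPrime) (hle : P ≤ P') : P = P' := by
  haveI := hP
  haveI := hP'
  set p := P.comap (algebraMap (H R K) (QS R K)) with hp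
  set p' := P'.comap (algebraMap (H R K) (QS R K)) with hp'
  have hpp' : p ≤ p' := Ideal.comap_mono hle
  have h1 := comap_mem_minimalPrimes hfin P
  have h2 := comap_mem_minimalPrimes hfin P'
  have h3 : p.comap (algebraMap R (H R K)) = p'.comap (algebraMap R (H R K)) :=
    le_antisymm (Ideal.comap_mono hpp') (h2.2 h1.1 (Ideal.comap_mono hpp'))
  have h4 : p = p' := eq_of_le_of_comap_eq_of_crit crit_H hpp' h3
  have e1 := IsLocalization.map_under (Algebra.algebraMapSubmonoid (H R K) (nonZeroDivisors R))
    (QS R K) P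
  have e2 := IsLocalization.map_under (Algebra.algebraMapSubmonoid (H R K) (nonZeroDivisors R))
    (QS R K) P'
  rw [← e1, ← e2]
  exact congrArg _ h4

/-- The map `H ⊗ A' → H ⊗ Frac R`. -/
noncomputable abbrev iotaT : TT R K →ₐ[R] QS R K := iota (FractionRing R)

theorem iotaT_injective : Function.Injective (iotaT (R := R) (K := K)) :=
  Module.Flat.lTensor_preserves_injective_linearMap (M := H R K)
    (integralClosure R (FractionRing R)).val.toLinearMap Subtype.val_injective

theorem iotaT_includeLeft (x : H R K) :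
    iotaT (Algebra.TensorProduct.includeLeft (S := R) x : TT R K) = algebraMap (H R K) (QS R K) x := by
  simp [iotaT, iota, Algebra.TensorProduct.algebraMap_apply]

section Bij

variable [IsReduced R] (hfin : (minimalPrimes R).Finite)

include hfin in
/-- Contraction of primes of `H ⊗ Frac R` gives minimal primes of `H`. -/
theorem comap_mem_minimalPrimes_H (P : Ideal (QS R K)) [P.IsPrime] :
    P.comap (algebraMap (H R K) (QS R K)) ∈ minimalPrimes (H R K) := by
  refine ⟨⟨Ideal.comap_isPrime _ _, bot_le⟩, ?_⟩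
  rintro p' ⟨hp', -⟩ hle
  haveI := hp'
  have hdisj' : Disjoint (Algebra.algebraMapSubmonoid (H R K) (nonZeroDivisors R) : Set (H R K)) p' := by
    have h1 := ((IsLocalization.isPrime_iff_isPrime_disjoint
      (Algebra.algebraMapSubmonoid (H R K) (nonZeroDivisors R)) (QS R K) P).mp inferInstance).2
    exact Set.disjoint_of_subset_right hle h1
  have hP'' : (p'.map (algebraMap (H R K) (QS R K))).IsPrime :=
    IsLocalization.isPrime_of_isPrime_disjoint _ _ p' hp' hdisj'
  have hco : (p'.map (algebraMap (H R K) (QS R K))).comap (algebraMap (H R K) (QS R K)) = p' :=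
    IsLocalization.under_map_of_isPrime_disjoint _ _ hp' hdisj'
  have hle' : p'.map (algebraMap (H R K) (QS R K)) ≤ P := by
    rw [Ideal.map_le_iff_le_comap]; exact hle
  have := eq_of_le_QS hfin _ _ hP'' inferInstance hle'
  rw [← this, hco]

include hfin in
/-- Contraction of primes of `H ⊗ Frac R` gives minimal primes of `H ⊗ A'`. -/
theorem comap_mem_minimalPrimes_T (P : Ideal (QS R K)) [P.IsPrime] :
    P.comap (iotaT (R := R) (K := K)).toRingHom ∈ minimalPrimes (TT R K) := by
  refine ⟨⟨Ideal.comap_isPrime _ _, bot_le⟩, ?_⟩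
  rintro P' ⟨hP', -⟩ hle
  obtain ⟨P'', hP'', hP''le⟩ := Ideal.exists_minimalPrimes_le (I := ⊥) (J := P') bot_le
  obtain ⟨𝔓, h𝔓, h𝔓co⟩ := Ideal.exists_comap_eq_of_mem_minimalPrimes_of_injective
    (f := (iotaT (R := R) (K := K)).toRingHom) iotaT_injective P'' hP''
  haveI := h𝔓
  have h1 : 𝔓.comap (algebraMap (H R K) (QS R K)) ≤ P.comap (algebraMap (H R K) (QS R K)) := by
    intro x hx
    rw [Ideal.mem_comap, ← iotaT_includeLeft] at hx ⊢
    have hx' : (Algebra.TensorProduct.includeLeft (S := R) x : TT R K) ∈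
        𝔓.comap (iotaT (R := R) (K := K)).toRingHom := hx
    rw [h𝔓co] at hx'
    exact hle (hP''le hx')
  have h2 : 𝔓 ≤ P := (IsLocalization.under_le_under_iff
    (Algebra.algebraMapSubmonoid (H R K) (nonZeroDivisors R)) (QS R K)).mp h1
  have h3 := eq_of_le_QS hfin _ _ h𝔓 inferInstance h2
  rw [← h3, h𝔓co]
  exact hP''le

/-- Primes of `H ⊗ Frac R` correspond to minimal primes of `H`. -/
noncomputable def equivMinimalPrimesH :
    PrimeSpectrum (QS R K) ≃ minimalPrimes (H R K) := by
  refine Equiv.ofBijective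
    (fun P => ⟨P.asIdeal.comap (algebraMap (H R K) (QS R K)), comap_mem_minimalPrimes_H hfin _⟩)
    ⟨?_, ?_⟩
  · intro P P' h
    have h1 : P.asIdeal.comap (algebraMap (H R K) (QS R K)) =
        P'.asIdeal.comap (algebraMap (H R K) (QS R K)) := congrArg Subtype.val h
    apply PrimeSpectrum.ext
    have e1 := IsLocalization.map_under (Algebra.algebraMapSubmonoid (H R K) (nonZeroDivisors R))
      (QS R K) P.asIdeal
    have e2 := IsLocalization.map_under (Algebra.algebraMapSubmonoid (H R K) (nonZeroDivisors R))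
      (QS R K) P'.asIdeal
    rw [← e1, ← e2]
    exact congrArg _ h1
  · rintro ⟨p, hp⟩
    haveI := hp.1.1
    have hdisj : Disjoint (Algebra.algebraMapSubmonoid (H R K) (nonZeroDivisors R) : Set (H R K)) p := by
      have := Ideal.disjoint_nonZeroDivisors_of_mem_minimalPrimes hp
      exact (Set.disjoint_of_subset_right algebraMapSubmonoid_le_nonZeroDivisors this).symm
    refine ⟨⟨p.map (algebraMap (H R K) (QS R K)),
      IsLocalization.isPrime_of_isPrime_disjoint _ _ p hp.1.1 hdisj⟩, ?_⟩
    apply Subtype.ext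
    exact IsLocalization.under_map_of_isPrime_disjoint _ _ hp.1.1 hdisj

/-- Primes of `H ⊗ Frac R` correspond to minimal primes of `H ⊗ A'`. -/
noncomputable def equivMinimalPrimesT :
    PrimeSpectrum (QS R K) ≃ minimalPrimes (TT R K) := by
  refine Equiv.ofBijective
    (fun P => ⟨P.asIdeal.comap (iotaT (R := R) (K := K)).toRingHom,
      comap_mem_minimalPrimes_T hfin _⟩) ⟨?_, ?_⟩
  · intro P P' h
    have h1 : P.asIdeal.comap (iotaT (R := R) (K := K)).toRingHom =
        P'.asIdeal.comap (iotaT (R := R) (K := K)).toRingHom := congrArg Subtype.val h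
    apply (equivMinimalPrimesH (K := K) hfin).injective
    apply Subtype.ext
    show P.asIdeal.comap (algebraMap (H R K) (QS R K)) =
      P'.asIdeal.comap (algebraMap (H R K) (QS R K))
    ext x
    rw [Ideal.mem_comap, Ideal.mem_comap, ← iotaT_includeLeft]
    have : ∀ 𝔓 : Ideal (QS R K), iotaT (Algebra.TensorProduct.includeLeft (S := R) x : TT R K) ∈ 𝔓 ↔
        (Algebra.TensorProduct.includeLeft (S := R) x : TT R K) ∈
          𝔓.comap (iotaT (R := R) (K := K)).toRingHom := fun _ => Iff.rfl
    rw [this, this, h1]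
  · rintro ⟨P, hP⟩
    obtain ⟨𝔓, h𝔓, h𝔓co⟩ := Ideal.exists_comap_eq_of_mem_minimalPrimes_of_injective
      (f := (iotaT (R := R) (K := K)).toRingHom) iotaT_injective P hP
    exact ⟨⟨𝔓, h𝔓⟩, Subtype.ext h𝔓co⟩

end Bij

end Groth.Agent.H8.Brnch
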