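import Mathlib
import Groth.Agent.Lib.Helper8.Brnch.MinPrimes

/-!
# Minimal primes and maximal ideals of `H ⊗ A'` correspond (helper8)
-/

universe u
open TensorProduct Polynomial

namespace Groth.Agent.H8.Brnch

open Groth.Agent.H8.Hens

variable {R : Type u} {K : Type u} [CommRing R] [Field K] [Algebra R K]

/-- Every prime of `H ⊗ A'` lies in a unique maximal ideal. -/
theorem existsUnique_maximal_ge (P : Ideal (TT R K)) [hP : P.IsPrime] :
    ∃! M : Ideal (TT R K), M.IsMaximal ∧ P ≤ M := by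
  haveI : Algebra.IsIntegral (H R K) (TT R K) := inferInstance
  haveI : Algebra.IsIntegral (H R K) (TT R K ⧸ P) :=
    Algebra.IsIntegral.of_surjective (Ideal.Quotient.mkₐ (H R K) P)
      (Ideal.Quotient.mkₐ_surjective _ _)
  haveI : IsLocalRing (TT R K ⧸ P) := isLocalRing_of_isDomain_of_isIntegral (H R K) (TT R K ⧸ P)
  obtain ⟨M, hM, hPM⟩ := Ideal.exists_le_maximal P hP.ne_top
  refine ⟨M, ⟨hM, hPM⟩, ?_⟩
  rintro M' ⟨hM', hPM'⟩
  have key : ∀ N : Ideal (TT R K), N.IsMaximal → P ≤ N →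
      N = (IsLocalRing.maximalIdeal (TT R K ⧸ P)).comap (Ideal.Quotient.mk P) := by
    intro N hN hPN
    have hker : RingHom.ker (Ideal.Quotient.mk P) ≤ N := by rw [Ideal.mk_ker]; exact hPN
    have h1 : (N.map (Ideal.Quotient.mk P)).IsMaximal :=
      Ideal.IsMaximal.map_of_surjective_of_ker_le Ideal.Quotient.mk_surjective hker
    have h2 := @IsLocalRing.eq_maximalIdeal (TT R K ⧸ P) _ _ _ h1
    rw [← h2, Ideal.comap_map_of_surjective _ Ideal.Quotient.mk_surjective]
    have : Ideal.comap (Ideal.Quotient.mk P) ⊥ ≤ N := by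
      rw [← RingHom.ker_eq_comap_bot]; exact hker
    exact (sup_eq_left.mpr this).symm
  rw [key M' hM' hPM', ← key M hM hPM]

section

variable [IsReduced R] (hfin : (minimalPrimes R).Finite)

include hfin in
/-- Every maximal ideal of `H ⊗ A'` contains a unique minimal prime. -/
theorem existsUnique_minimalPrime_le (M : Ideal (TT R K)) [hM : M.IsMaximal] :
    ∃! P : Ideal (TT R K), P ∈ minimalPrimes (TT R K) ∧ P ≤ M := by
  obtain ⟨P, hP, hPM⟩ := Ideal.exists_minimalPrimes_le (I := ⊥) (J := M) bot_le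
  refine ⟨P, ⟨hP, hPM⟩, ?_⟩
  rintro P' ⟨hP', hP'M⟩
  by_contra hne
  obtain ⟨𝔓, h𝔓⟩ := (equivMinimalPrimesT (K := K) hfin).surjective ⟨P, hP⟩
  obtain ⟨𝔓', h𝔓'⟩ := (equivMinimalPrimesT (K := K) hfin).surjective ⟨P', hP'⟩
  have e1 : 𝔓.asIdeal.comap (iotaT (R := R) (K := K)).toRingHom = P := congrArg Subtype.val h𝔓
  have e2 : 𝔓'.asIdeal.comap (iotaT (R := R) (K := K)).toRingHom = P' := congrArg Subtype.val h𝔓'
  have hne' : 𝔓'.asIdeal ≠ 𝔓.asIdeal := by
    intro h
    apply hne
    rw [← e1, ← e2, h]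
  haveI := isReduced_QS (R := R) (K := K)
  obtain ⟨ε, hε, hε1, hε2⟩ := exists_idempotent_separating (eq_of_le_QS (K := K) hfin)
    𝔓'.2 𝔓.2 hne'
  obtain ⟨t, rfl⟩ := exists_of_isIdempotentElem (nonZeroDivisors R) (FractionRing R) ε hε
  have ht1 : t ∈ P' := by
    rw [← e2]; exact hε1
  have ht2 : 1 - t ∈ P := by
    rw [← e1, Ideal.mem_comap, map_sub, map_one]; exact hε2
  have : (1 : TT R K) ∈ M := by
    have := M.add_mem (hP'M ht1) (hPM ht2)
    simpa using this
  exact hM.ne_top ((Ideal.eq_top_iff_one M).mpr this)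

/-- Minimal primes of `H ⊗ A'` correspond to its maximal ideals. -/
noncomputable def equivMinimalMaximal :
    minimalPrimes (TT R K) ≃ MaximalSpectrum (TT R K) := by
  refine Equiv.ofBijective
    (fun P => ⟨(existsUnique_maximal_ge P.1 (hP := P.2.1.1)).choose,
      (existsUnique_maximal_ge P.1 (hP := P.2.1.1)).choose_spec.1.1⟩) ⟨?_, ?_⟩
  · intro P P' h
    have h1 : (existsUnique_maximal_ge P.1 (hP := P.2.1.1)).choose =
        (existsUnique_maximal_ge P'.1 (hP := P'.2.1.1)).choose :=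
      congrArg MaximalSpectrum.asIdeal h
    have hP := (existsUnique_maximal_ge P.1 (hP := P.2.1.1)).choose_spec.1
    have hP' := (existsUnique_maximal_ge P'.1 (hP := P'.2.1.1)).choose_spec.1
    haveI := hP.1
    have hu := existsUnique_minimalPrime_le (K := K) hfin
      (existsUnique_maximal_ge P.1 (hP := P.2.1.1)).choose
    apply Subtype.ext
    exact hu.unique ⟨P.2, hP.2⟩ ⟨P'.2, h1 ▸ hP'.2⟩
  · rintro ⟨M, hM⟩
    haveI := hM
    obtain ⟨P, ⟨hP, hPM⟩, -⟩ := existsUnique_minimalPrime_le (K := K) hfin M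
    refine ⟨⟨P, hP⟩, ?_⟩
    apply MaximalSpectrum.ext
    have hu := existsUnique_maximal_ge P (hP := hP.1.1)
    exact hu.unique hu.choose_spec.1 ⟨hM, hPM⟩

include hfin in
theorem card_minimalPrimes_H_eq :
    ENat.card (minimalPrimes (H R K)) = ENat.card (MaximalSpectrum (TT R K)) := by
  rw [← ENat.card_congr (equivMinimalPrimesH (K := K) hfin),
    ENat.card_congr (equivMinimalPrimesT (K := K) hfin),
    ENat.card_congr (equivMinimalMaximal (K := K) hfin)]

end

end Groth.Agent.H8.Brnch
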