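import Mathlib
import Groth.Agent.Lib.Helper8.Brnch.MinMax
import Groth.Agent.Lib.Helper8.Brnch.MaxSpecHens
import Groth.Agent.Lib.Helper8.Hens.UniqueMinPrime
import Groth.Prelude.Def_Brnch

/-!
# The number of branches of a local ring is the number of minimal primes of its henselization
(helper8)
-/

universe u
open TensorProduct IsLocalRing

namespace Groth.Agent.H8.Brnch

open Groth.Agent.H8.Hens

section General

/-- A surjective ring map with kernel contained in the nilradical induces a bijection on minimal
primes. -/
noncomputable def equivMinimalPrimesOfSurjective {B B' : Type*} [CommRing B] [CommRing B']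
    (f : B →+* B') (hf : Function.Surjective f) (hker : RingHom.ker f ≤ nilradical B) :
    minimalPrimes B' ≃ minimalPrimes B := by
  have himg : minimalPrimes B = Ideal.comap f '' minimalPrimes B' := by
    have h1 := Ideal.comap_minimalPrimes_eq_of_surjective hf (⊥ : Ideal B')
    rw [← h1, ← RingHom.ker_eq_comap_bot]
    ext P
    constructor
    · rintro ⟨⟨hP, -⟩, hmin⟩
      refine ⟨⟨hP, hker.trans (nilradical_le_prime P)⟩, ?_⟩
      rintro Q ⟨hQ, -⟩ hQP
      exact hmin ⟨hQ, bot_le⟩ hQP
    · rintro ⟨⟨hP, -⟩, hmin⟩
      refine ⟨⟨hP, bot_le⟩, ?_⟩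
      rintro Q ⟨hQ, -⟩ hQP
      exact hmin ⟨hQ, hker.trans (@nilradical_le_prime _ _ Q hQ)⟩ hQP
  refine Equiv.ofBijective
    (fun P => ⟨P.1.comap f, by rw [himg]; exact ⟨P.1, P.2, rfl⟩⟩) ⟨?_, ?_⟩
  · intro P P' h
    apply Subtype.ext
    exact Ideal.comap_injective_of_surjective f hf (congrArg Subtype.val h)
  · rintro ⟨P, hP⟩
    rw [himg] at hP
    obtain ⟨P', hP', rfl⟩ := hP
    exact ⟨⟨P', hP'⟩, rfl⟩

theorem card_minimalPrimes_of_ringEquiv {B B' : Type*} [CommRing B] [CommRing B'] (e : B ≃+* B') :
    ENat.card (minimalPrimes B) = ENat.card (minimalPrimes B') := by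
  refine (ENat.card_congr (equivMinimalPrimesOfSurjective (e : B →+* B') e.surjective ?_)).symm
  have : RingHom.ker (e : B →+* B') = ⊥ := (RingHom.injective_iff_ker_eq_bot _).mp e.injective
  rw [this]; exact bot_le

/-- If `A → S` is injective and `A` has infinitely many minimal primes, so does `S`. -/
theorem card_minimalPrimes_eq_top_of_injective {A S : Type*} [CommRing A] [CommRing S]
    (f : A →+* S) (hf : Function.Injective f) (hinf : ¬ (minimalPrimes A).Finite) :
    ENat.card (minimalPrimes S) = ⊤ := by
  rw [ENat.card_eq_top, Set.infinite_coe_iff]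
  have hsub : minimalPrimes A ⊆ Ideal.comap f '' minimalPrimes S := by
    intro p hp
    have hp' : p ∈ ((⊥ : Ideal S).comap f).minimalPrimes := by
      rwa [Ideal.comap_bot_of_injective f hf]
    obtain ⟨P, hP, rfl⟩ := Ideal.exists_minimalPrimes_comap_eq f p hp'
    exact ⟨P, hP, rfl⟩
  exact Set.Infinite.of_image _ (Set.Infinite.mono hsub hinf)

end General

section Reduced

variable (R : Type u) [CommRing R] [IsLocalRing R] [IsReduced R]

theorem card_minimalPrimes_henselization_of_isReduced (hfin : (minimalPrimes R).Finite) :
    ENat.card (minimalPrimes (Henselization R)) =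
      ENat.card (MaximalSpectrum (integralClosure R (FractionRing R))) := by
  rw [card_minimalPrimes_H_eq (K := ResidueField R) hfin]
  exact ENat.card_congr (equivMaximalSpectrum (R := R) (B := integralClosure R (FractionRing R)))

end Reduced

section Main

variable (A S : Type u) [CommRing A] [IsLocalRing A] [CommRing S] [IsLocalRing S] [Algebra A S]
  [IsLocalHom (algebraMap A S)] [hS : Hensel.IsHenselization A S]

theorem card_minimalPrimes_eq_numBranches :
    ENat.card (minimalPrimes S) = Brnch.numBranches A := by
  classical
  haveI : Module.FaithfullyFlat A S := faithfullyFlat_of_isHenselization (R := A) S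
  have hinj : Function.Injective (algebraMap A S) := FaithfulSMul.algebraMap_injective A S
  rw [Brnch.numBranches]
  split_ifs with hfin
  · -- reduce to the reduced case
    have hN : (nilradical A).map (algebraMap A S) = nilradical S :=
      map_nilradical_of_isHenselization (R := A) S
    haveI : IsLocalRing (A ⧸ nilradical A) :=
      UMP.isLocalRing_quotient _ (UMP.nilradical_ne_top A)
    haveI : IsLocalRing (S ⧸ (nilradical A).map (algebraMap A S)) :=
      UMP.isLocalRing_quotient _ (UMP.map_ne_top _ (UMP.nilradical_ne_top A))
    haveI := UMP.isLocalHom_quotient (S := S) (nilradical A)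
    haveI hq := isHenselization_quotient (A := A) (S := S) (nilradical A)
    haveI : IsReduced (A ⧸ nilradical A) :=
      (Ideal.isRadical_iff_quotient_reduced _).mp (Ideal.radical_isRadical _)
    -- minimal primes of `S` and of `S / nil`
    have e1 : ENat.card (minimalPrimes S) =
        ENat.card (minimalPrimes (S ⧸ (nilradical A).map (algebraMap A S))) := by
      refine (ENat.card_congr (equivMinimalPrimesOfSurjective
        (Ideal.Quotient.mk ((nilradical A).map (algebraMap A S))) Ideal.Quotient.mk_surjective ?_)).symm
      rw [Ideal.mk_ker, hN]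
    have e2 : ENat.card (minimalPrimes (S ⧸ (nilradical A).map (algebraMap A S))) =
        ENat.card (minimalPrimes (Henselization (A ⧸ nilradical A))) :=
      (card_minimalPrimes_of_ringEquiv
        (algEquiv (R := A ⧸ nilradical A) (S ⧸ (nilradical A).map (algebraMap A S))).toRingEquiv).symm
    have hfin' : (minimalPrimes (A ⧸ nilradical A)).Finite := by
      have e := equivMinimalPrimesOfSurjective (Ideal.Quotient.mk (nilradical A))
        Ideal.Quotient.mk_surjective (by rw [Ideal.mk_ker])
      haveI : Finite (minimalPrimes A) := hfin.to_subtype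
      haveI : Finite (minimalPrimes (A ⧸ nilradical A)) := Finite.of_equiv _ e.symm
      exact Set.toFinite _
    rw [e1, e2, card_minimalPrimes_henselization_of_isReduced (A ⧸ nilradical A) hfin']
  · exact card_minimalPrimes_eq_top_of_injective (algebraMap A S) hinj hfin

end Main

end Groth.Agent.H8.Brnch
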