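import Mathlib
import Groth.Agent.Lib.Helper8.Brnch.NumBranches
import Groth.Agent.Lib.Helper8.Brnch.MaxSpecStrict
import Groth.Agent.Lib.Helper8.Hens.StrictQuot

/-!
# The number of geometric branches of a local ring is the number of minimal primes of its strict
henselization (helper8)
-/

universe u
open TensorProduct IsLocalRing

namespace Groth.Agent.H8.Brnch

open Groth.Agent.H8.Hens

section Reduced

variable (R : Type u) [CommRing R] [IsLocalRing R]

/-- A local map from the strict henselization to an algebraically closed field extending a given
local map from `R`. -/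
theorem exists_jH (Ω : Type u) [Field Ω] [IsAlgClosed Ω] (ρ : R →+* Ω) [IsLocalHom ρ] :
    ∃ jH : StrictHenselization R →+* Ω, IsLocalHom jH ∧
      jH.comp (algebraMap R (StrictHenselization R)) = ρ := by
  haveI hS := isStrictHenselization (R := R)
  haveI : Algebra.IsSeparable (ResidueField R) (ResidueField (StrictHenselization R)) :=
    hS.isSepClosure.separable
  letI : Algebra (ResidueField R) Ω := (ResidueField.lift ρ).toAlgebra
  let j : ResidueField (StrictHenselization R) →ₐ[ResidueField R] Ω := IsAlgClosed.lift
  refine ⟨j.toRingHom.comp (residue _), ?_, ?_⟩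
  · constructor
    intro h hh
    by_contra hnu
    have h0 : residue _ h = 0 := (residue_eq_zero_iff h).mpr hnu
    rw [RingHom.comp_apply, h0, map_zero] at hh
    exact not_isUnit_zero hh
  · ext r
    simp only [RingHom.comp_apply]
    have h1 : residue (StrictHenselization R) (algebraMap R _ r) =
        algebraMap (ResidueField R) (ResidueField (StrictHenselization R)) (residue R r) := rfl
    rw [h1]
    show j (algebraMap _ _ (residue R r)) = ρ r
    rw [j.commutes]
    rfl

variable [IsReduced R]

theorem card_minimalPrimes_strictHenselization_of_isReduced (hfin : (minimalPrimes R).Finite)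
    (Ω : Type u) [Field Ω] [IsAlgClosed Ω] (ρ : R →+* Ω) [IsLocalHom ρ] :
    ENat.card (minimalPrimes (StrictHenselization R)) =
      ENat.card (Σ m' : MaximalSpectrum (integralClosure R (FractionRing R)),
        {σ : integralClosure R (FractionRing R) ⧸ m'.asIdeal →+* Ω //
          σ.comp ((Ideal.Quotient.mk m'.asIdeal).comp
            (algebraMap R (integralClosure R (FractionRing R)))) = ρ}) := by
  rw [card_minimalPrimes_H_eq (K := SepK R) hfin]
  obtain ⟨jH, hjloc, hjρ⟩ := exists_jH R Ω ρ
  haveI := hjloc
  haveI hS := isStrictHenselization (R := R)
  haveI : IsSepClosed (ResidueField (StrictHenselization R)) := hS.isSepClosure.sep_closed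
  have e1 := equivPtB (R := R) (Hs := StrictHenselization R)
    (B := integralClosure R (FractionRing R)) (Ω := Ω) jH
  have e2 : PtB R (StrictHenselization R) (integralClosure R (FractionRing R)) Ω jH ≃
      {ψ : integralClosure R (FractionRing R) →+* Ω //
        ψ.comp (algebraMap R (integralClosure R (FractionRing R))) = ρ} :=
    Equiv.subtypeEquivRight (fun ψ => by rw [hjρ])
  exact ENat.card_congr ((e1.trans e2).trans (equivSigma ρ).symm)

end Reduced

section Main

variable (A S : Type u) [CommRing A] [IsLocalRing A] [CommRing S] [IsLocalRing S] [Algebra A S]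
  [IsLocalHom (algebraMap A S)] [hS : Hensel.IsStrictHenselization A S]

theorem card_minimalPrimes_eq_numGeomBranches :
    ENat.card (minimalPrimes S) = Brnch.numGeomBranches A := by
  classical
  haveI : Module.FaithfullyFlat A S := faithfullyFlat_of_isStrictHenselization (R := A) S
  have hinj : Function.Injective (algebraMap A S) := FaithfulSMul.algebraMap_injective A S
  rw [Brnch.numGeomBranches]
  split_ifs with hfin
  · have hN : (nilradical A).map (algebraMap A S) = nilradical S :=
      map_nilradical_of_isStrictHenselization (R := A) S
    haveI : IsLocalRing (A ⧸ nilradical A) :=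
      UMP.isLocalRing_quotient _ (UMP.nilradical_ne_top A)
    haveI : IsLocalRing (S ⧸ (nilradical A).map (algebraMap A S)) :=
      UMP.isLocalRing_quotient _ (UMP.map_ne_top _ (UMP.nilradical_ne_top A))
    haveI := UMP.isLocalHom_quotient (S := S) (nilradical A)
    haveI hq := UMP.isStrictHenselization_quotient (A := A) (S := S) (nilradical A)
    haveI : IsReduced (A ⧸ nilradical A) :=
      (Ideal.isRadical_iff_quotient_reduced _).mp (Ideal.radical_isRadical _)
    have e1 : ENat.card (minimalPrimes S) =
        ENat.card (minimalPrimes (S ⧸ (nilradical A).map (algebraMap A S))) := by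
      refine (ENat.card_congr (equivMinimalPrimesOfSurjective
        (Ideal.Quotient.mk ((nilradical A).map (algebraMap A S))) Ideal.Quotient.mk_surjective ?_)).symm
      rw [Ideal.mk_ker, hN]
    have e2 : ENat.card (minimalPrimes (S ⧸ (nilradical A).map (algebraMap A S))) =
        ENat.card (minimalPrimes (StrictHenselization (A ⧸ nilradical A))) :=
      (card_minimalPrimes_of_ringEquiv
        (algEquivStrict (R := A ⧸ nilradical A)
          (S ⧸ (nilradical A).map (algebraMap A S))).toRingEquiv).symm
    have hfin' : (minimalPrimes (A ⧸ nilradical A)).Finite := by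
      have e := equivMinimalPrimesOfSurjective (Ideal.Quotient.mk (nilradical A))
        Ideal.Quotient.mk_surjective (by rw [Ideal.mk_ker])
      haveI : Finite (minimalPrimes A) := hfin.to_subtype
      haveI : Finite (minimalPrimes (A ⧸ nilradical A)) := Finite.of_equiv _ e.symm
      exact Set.toFinite _
    -- the map to the algebraic closure
    let Ω := AlgebraicClosure (ResidueField A)
    have hkill : ∀ a ∈ nilradical A, Brnch.toClosure A a = 0 := by
      intro a ha
      exact IsNilpotent.eq_zero ((mem_nilradical.mp ha).map (Brnch.toClosure A))
    let ρ₀ : A ⧸ nilradical A →+* Ω := Ideal.Quotient.lift (nilradical A) (Brnch.toClosure A) hkill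
    haveI : IsLocalHom ρ₀ := by
      constructor
      intro x hx
      obtain ⟨a, rfl⟩ := Ideal.Quotient.mk_surjective x
      have h1 : ρ₀ (Ideal.Quotient.mk _ a) = Brnch.toClosure A a := Ideal.Quotient.lift_mk _ _ _
      rw [h1] at hx
      have h2 : residue A a ≠ 0 := by
        intro h0
        have : Brnch.toClosure A a = 0 := by
          show algebraMap _ _ (residue A a) = 0
          rw [h0, map_zero]
        rw [this] at hx
        exact not_isUnit_zero hx
      have h3 : IsUnit a := by
        by_contra hnu
        exact h2 ((residue_eq_zero_iff a).mpr hnu)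
      exact h3.map _
    rw [e1, e2, card_minimalPrimes_strictHenselization_of_isReduced (A ⧸ nilradical A) hfin' Ω ρ₀]
    refine ENat.card_congr (Equiv.sigmaCongrRight fun m' => Equiv.subtypeEquivRight fun σ => ?_)
    constructor
    · intro h
      show σ.comp (Brnch.toResidue A m') = Brnch.toClosure A
      have : Brnch.toResidue A m' = ((Ideal.Quotient.mk m'.asIdeal).comp
          (algebraMap (A ⧸ nilradical A) (CAlg2.normRed A))).comp
            (Ideal.Quotient.mk (nilradical A)) := rfl
      rw [this, ← RingHom.comp_assoc, h]
      ext a
      exact Ideal.Quotient.lift_mk (nilradical A) (Brnch.toClosure A) hkill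
    · intro h
      apply Ideal.Quotient.ringHom_ext
      have h' : σ.comp (Brnch.toResidue A m') = Brnch.toClosure A := h
      have : Brnch.toResidue A m' = ((Ideal.Quotient.mk m'.asIdeal).comp
          (algebraMap (A ⧸ nilradical A) (CAlg2.normRed A))).comp
            (Ideal.Quotient.mk (nilradical A)) := rfl
      rw [this, ← RingHom.comp_assoc] at h'
      rw [h']
      ext a
      exact (Ideal.Quotient.lift_mk (nilradical A) (Brnch.toClosure A) hkill).symm
  · exact card_minimalPrimes_eq_top_of_injective (algebraMap A S) hinj hfin

end Main

end Groth.Agent.H8.Brnch
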