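import Mathlib
import Groth.Agent.Lib.Helper8.Brnch.NumGeomBranches
import Groth.Agent.Lib.Helper8.Brnch.GUCrit
import Groth.Agent.Lib.Helper8.Hens.EtaleGU
import Groth.Agent.Lib.Helper8.Hens.EtaleUB

/-!
# Counting branches through étale neighbourhoods: algebra (helper8)
-/

universe u
open TensorProduct IsLocalRing

namespace Groth.Agent.H8.Brnch

open Groth.Agent.H8.Hens

section Crit

open Groth.Agent.H4.IndEtCrit

/-- Finitely many elements of an ind-étale algebra come from one étale algebra. -/
theorem Crit.exists_finset {A B : Type u} [CommRing A] [CommRing B] [Algebra A B] (hc : Crit A B)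
    (F : Finset B) : ∃ (C : Type u) (_ : CommRing C) (_ : Algebra A C) (_ : Algebra.Etale A C)
      (g : C →ₐ[A] B), (F : Set B) ⊆ Set.range g := by
  classical
  induction F using Finset.induction_on with
  | empty =>
    exact ⟨A, inferInstance, inferInstance, inferInstance, Algebra.ofId A B, by simp⟩
  | insert b F _ ih =>
    obtain ⟨C₁, _, _, _, g₁, hg₁⟩ := ih
    obtain ⟨C₂, _, _, _, g₂, c₂, hc₂⟩ := hc.lift b
    refine ⟨C₁ ⊗[A] C₂, inferInstance, inferInstance, inferInstance,
      Algebra.TensorProduct.lift g₁ g₂ (fun _ _ => Commute.all _ _), ?_⟩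
    intro x hx
    rw [Finset.coe_insert, Set.mem_insert_iff] at hx
    rcases hx with rfl | hx
    · exact ⟨1 ⊗ₜ c₂, by simp [hc₂]⟩
    · obtain ⟨c₁, rfl⟩ := hg₁ hx
      exact ⟨c₁ ⊗ₜ 1, by simp⟩

end Crit

section General

/-- For an injective ring map, the target has at least as many minimal primes. -/
theorem card_minimalPrimes_le_of_injective {A S : Type*} [CommRing A] [CommRing S]
    (f : A →+* S) (hf : Function.Injective f) :
    ENat.card (minimalPrimes A) ≤ ENat.card (minimalPrimes S) := by
  have hsub : minimalPrimes A ⊆ Ideal.comap f '' minimalPrimes S := by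
    intro p hp
    have hp' : p ∈ ((⊥ : Ideal S).comap f).minimalPrimes := by
      rwa [Ideal.comap_bot_of_injective f hf]
    obtain ⟨P, hP, rfl⟩ := Ideal.exists_minimalPrimes_comap_eq f p hp'
    exact ⟨P, hP, rfl⟩
  show (minimalPrimes A).encard ≤ (minimalPrimes S).encard
  exact (Set.encard_le_encard hsub).trans (Set.encard_image_le _ _)

theorem numGeomBranches_eq_of_ringEquiv {A A' : Type u} [CommRing A] [IsLocalRing A] [CommRing A']
    [IsLocalRing A'] (e : A ≃+* A') : Brnch.numGeomBranches A = Brnch.numGeomBranches A' := by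
  haveI := isStrictHenselization (R := A)
  letI : Algebra A' (StrictHenselization A) :=
    ((algebraMap A (StrictHenselization A)).comp (e.symm : A' →+* A)).toAlgebra
  have he : (algebraMap A' (StrictHenselization A)).comp (e : A →+* A') =
      algebraMap A (StrictHenselization A) := by
    refine RingHom.ext fun a => ?_
    show algebraMap A (StrictHenselization A) (e.symm (e a)) = _
    rw [RingEquiv.symm_apply_apply]
  haveI : IsLocalHom (e.symm : A' →+* A) := ⟨fun a ha => by
    have := ha.map (e : A →+* A')
    simpa using this⟩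
  haveI : IsLocalHom (algebraMap A' (StrictHenselization A)) :=
    RingHom.isLocalHom_comp (algebraMap A (StrictHenselization A)) (e.symm : A' →+* A)
  haveI := GU.isStrictHenselization_of_ringEquiv (S := StrictHenselization A) e he
  rw [← card_minimalPrimes_eq_numGeomBranches A (StrictHenselization A),
    ← card_minimalPrimes_eq_numGeomBranches A' (StrictHenselization A)]

theorem numBranches_eq_of_ringEquiv {A A' : Type u} [CommRing A] [IsLocalRing A] [CommRing A']
    [IsLocalRing A'] (e : A ≃+* A') : Brnch.numBranches A = Brnch.numBranches A' := by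
  haveI := isHenselization (R := A)
  letI : Algebra A' (Henselization A) :=
    ((algebraMap A (Henselization A)).comp (e.symm : A' →+* A)).toAlgebra
  have he : (algebraMap A' (Henselization A)).comp (e : A →+* A') =
      algebraMap A (Henselization A) := by
    refine RingHom.ext fun a => ?_
    show algebraMap A (Henselization A) (e.symm (e a)) = _
    rw [RingEquiv.symm_apply_apply]
  haveI : IsLocalHom (e.symm : A' →+* A) := ⟨fun a ha => by
    have := ha.map (e : A →+* A')
    simpa using this⟩
  haveI : IsLocalHom (algebraMap A' (Henselization A)) :=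
    RingHom.isLocalHom_comp (algebraMap A (Henselization A)) (e.symm : A' →+* A)
  haveI := isHenselization_of_ringEquiv (S := Henselization A) e he
  rw [← card_minimalPrimes_eq_numBranches A (Henselization A),
    ← card_minimalPrimes_eq_numBranches A' (Henselization A)]

theorem card_minimalPrimes_le_numGeomBranches (A : Type u) [CommRing A] [IsLocalRing A] :
    ENat.card (minimalPrimes A) ≤ Brnch.numGeomBranches A := by
  haveI := isStrictHenselization (R := A)
  rw [← card_minimalPrimes_eq_numGeomBranches A (StrictHenselization A)]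
  haveI : Module.FaithfullyFlat A (StrictHenselization A) :=
    faithfullyFlat_of_isStrictHenselization (R := A) _
  exact card_minimalPrimes_le_of_injective _ (FaithfulSMul.algebraMap_injective A _)

theorem card_minimalPrimes_le_numBranches (A : Type u) [CommRing A] [IsLocalRing A] :
    ENat.card (minimalPrimes A) ≤ Brnch.numBranches A := by
  haveI := isHenselization (R := A)
  rw [← card_minimalPrimes_eq_numBranches A (Henselization A)]
  haveI : Module.FaithfullyFlat A (Henselization A) :=
    faithfullyFlat_of_isHenselization (R := A) _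
  exact card_minimalPrimes_le_of_injective _ (FaithfulSMul.algebraMap_injective A _)

end General

section LowerBound

open Groth.Agent.H4.IndEtCrit

/-- Minimal primes contract to minimal primes along flat maps (going down). -/
theorem under_mem_minimalPrimes_of_flat {R S : Type*} [CommRing R] [CommRing S] [Algebra R S]
    [Module.Flat R S] {P : Ideal S} (hP : P ∈ minimalPrimes S) : P.under R ∈ minimalPrimes R := by
  haveI := hP.1.1
  refine ⟨⟨inferInstance, bot_le⟩, fun p' hp' hle => ?_⟩
  haveI := hp'.1
  obtain ⟨P', hP'le, hP'prime, hP'over⟩ :=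
    Ideal.exists_ideal_le_liesOver_of_le (p := p') (q := P.under R) P hle
  have := hP.2 ⟨hP'prime, bot_le⟩ hP'le
  rw [hP'over.over]
  exact Ideal.comap_mono this

/-- A prime of a quasi-finite algebra lying over a minimal prime is minimal. -/
theorem mem_minimalPrimes_of_quasiFinite {R C : Type*} [CommRing R] [CommRing C] [Algebra R C]
    [Algebra.QuasiFinite R C] {Q : Ideal C} [Q.IsPrime] (hQ : Q.under R ∈ minimalPrimes R) :
    Q ∈ minimalPrimes C := by
  refine ⟨⟨inferInstance, bot_le⟩, fun Q' hQ' hle => ?_⟩
  haveI := hQ'.1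
  have h1 : Q'.under R = Q.under R :=
    le_antisymm (Ideal.comap_mono hle) (hQ.2 ⟨inferInstance, bot_le⟩ (Ideal.comap_mono hle))
  exact (Algebra.QuasiFinite.eq_of_le_of_under_eq Q' Q hle h1).ge

/-- Finitely many minimal primes of a flat ind-étale algebra are separated on an étale
subalgebra. -/
theorem exists_etale_le_encard {R B : Type u} [CommRing R] [CommRing B] [Algebra R B]
    [Module.Flat R B] (hc : Crit R B) (n : ℕ) (hn : (n : ℕ∞) ≤ ENat.card (minimalPrimes B)) :
    ∃ (C : Type u) (_ : CommRing C) (_ : Algebra R C) (_ : Algebra.Etale R C) (g : C →ₐ[R] B),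
      ∀ 𝔪 : Ideal B, (∀ P ∈ minimalPrimes B, P ≤ 𝔪) →
        (n : ℕ∞) ≤ {Q : Ideal C | Q ∈ minimalPrimes C ∧ Q ≤ 𝔪.comap g.toRingHom}.encard := by
  classical
  obtain ⟨T, hT, hTn⟩ := Set.exists_subset_encard_eq (s := minimalPrimes B) hn
  have hfin : T.Finite := Set.finite_of_encard_eq_coe hTn
  let sep : Ideal B → Ideal B → B := fun P P' =>
    if h : ∃ x, x ∈ P ∧ x ∉ P' then h.choose else 0
  have hsep : ∀ P ∈ T, ∀ P' ∈ T, P ≠ P' → sep P P' ∈ P ∧ sep P P' ∉ P' := by
    intro P hP P' hP' hne
    have hnle : ¬ P ≤ P' := fun hle => hne (le_antisymm hle ((hT hP').2 (hT hP).1 hle))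
    have h : ∃ x, x ∈ P ∧ x ∉ P' := SetLike.not_le_iff_exists.mp hnle
    simp only [sep, dif_pos h]
    exact h.choose_spec
  let F : Finset B := (hfin.toFinset ×ˢ hfin.toFinset).image (fun pp => sep pp.1 pp.2)
  obtain ⟨C, _, _, _, g, hg⟩ := Crit.exists_finset hc F
  refine ⟨C, inferInstance, inferInstance, inferInstance, g, fun 𝔪 h𝔪 => ?_⟩
  have hinj : Set.InjOn (Ideal.comap g.toRingHom) T := by
    intro P hP P' hP' heq
    by_contra hne
    obtain ⟨h1, h2⟩ := hsep P hP P' hP' hne
    have hF : sep P P' ∈ (F : Set B) := by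
      rw [Finset.mem_coe, Finset.mem_image]
      exact ⟨(P, P'), by simp [hP, hP'], rfl⟩
    obtain ⟨c, hc'⟩ := hg hF
    have hcP : c ∈ Ideal.comap g.toRingHom P := by
      rw [Ideal.mem_comap]; show g c ∈ P; rw [hc']; exact h1
    rw [heq, Ideal.mem_comap] at hcP
    apply h2
    rw [← hc']
    exact hcP
  have hsub : Ideal.comap g.toRingHom '' T ⊆
      {Q : Ideal C | Q ∈ minimalPrimes C ∧ Q ≤ 𝔪.comap g.toRingHom} := by
    rintro _ ⟨P, hP, rfl⟩
    haveI := (hT hP).1.1
    refine ⟨?_, Ideal.comap_mono (h𝔪 P (hT hP))⟩
    haveI : (Ideal.comap g.toRingHom P).IsPrime := Ideal.comap_isPrime _ _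
    apply mem_minimalPrimes_of_quasiFinite (R := R)
    have h1 : (Ideal.comap g.toRingHom P).under R = P.under R := by
      ext r
      simp only [Ideal.under, Ideal.mem_comap]
      show g (algebraMap R C r) ∈ P ↔ _
      rw [g.commutes]
    rw [h1]
    exact under_mem_minimalPrimes_of_flat (hT hP)
  calc (n : ℕ∞) = T.encard := hTn.symm
    _ = (Ideal.comap g.toRingHom '' T).encard := (hinj.encard_image).symm
    _ ≤ _ := Set.encard_le_encard hsub

end LowerBound

section LowerBound2

open Groth.Agent.H4.IndEtCrit

variable (R : Type u) [CommRing R] (p : Ideal R) [p.IsPrime]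

/-- Every finite lower bound for the number of geometric branches of `R_p` is realised by the
minimal primes through a point of an étale `R`-algebra. -/
theorem exists_etale_le_encard_of_le_numGeomBranches (Rp : Type u) [CommRing Rp] [Algebra R Rp]
    [IsLocalization.AtPrime Rp p] [IsLocalRing Rp] (n : ℕ)
    (hn : (n : ℕ∞) ≤ Brnch.numGeomBranches Rp) :
    ∃ (C : Type u) (_ : CommRing C) (_ : Algebra R C) (_ : Algebra.Etale R C) (q' : Ideal C)
      (_ : q'.IsPrime), q'.comap (algebraMap R C) = p ∧
        (n : ℕ∞) ≤ {Q : Ideal C | Q ∈ minimalPrimes C ∧ Q ≤ q'}.encard := by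
  let eR : Rp ≃ₐ[R] Localization.AtPrime p := IsLocalization.algEquiv p.primeCompl _ _
  rw [numGeomBranches_eq_of_ringEquiv eR.toRingEquiv] at hn
  set Rp' := Localization.AtPrime p
  set Ash := StrictHenselization Rp'
  letI : Algebra R Ash := ((algebraMap Rp' Ash).comp (algebraMap R Rp')).toAlgebra
  haveI : IsScalarTower R Rp' Ash := IsScalarTower.of_algebraMap_eq fun _ => rfl
  haveI hS : Hensel.IsStrictHenselization Rp' Ash := isStrictHenselization
  have hcrit : Crit R Ash := crit_strictHenselization_atPrime R p
  haveI : Module.FaithfullyFlat Rp' Ash := faithfullyFlat_of_isStrictHenselization (R := Rp') _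
  haveI : Module.Flat R Ash := Module.Flat.trans R Rp' Ash
  rw [← card_minimalPrimes_eq_numGeomBranches Rp' Ash] at hn
  obtain ⟨C, _, _, _, g, hg⟩ := exists_etale_le_encard hcrit n hn
  have hRAh : (maximalIdeal Ash).comap (algebraMap R Ash) = p := by
    have h2 : (maximalIdeal Ash).comap (algebraMap R Ash) =
        ((maximalIdeal Ash).comap (algebraMap Rp' Ash)).comap (algebraMap R Rp') := by
      rw [Ideal.comap_comap, ← IsScalarTower.algebraMap_eq]
    rw [h2]
    have h3 : (maximalIdeal Ash).comap (algebraMap Rp' Ash) = maximalIdeal Rp' :=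
      ((local_hom_TFAE (algebraMap Rp' Ash)).out 0 4).mp
        (inferInstance : IsLocalHom (algebraMap Rp' Ash))
    rw [h3]
    exact IsLocalization.AtPrime.under_maximalIdeal Rp' p
  refine ⟨C, inferInstance, inferInstance, inferInstance, (maximalIdeal Ash).comap g.toRingHom,
    Ideal.comap_isPrime _ _, ?_, hg _ fun P hP => ?_⟩
  · have h1 : ((maximalIdeal Ash).comap g.toRingHom).comap (algebraMap R C) =
        (maximalIdeal Ash).comap (algebraMap R Ash) := by
      ext r
      simp only [Ideal.mem_comap]
      show g (algebraMap R C r) ∈ _ ↔ _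
      rw [g.commutes]
    rw [h1, hRAh]
  · haveI := hP.1.1
    exact le_maximalIdeal (Ideal.IsPrime.ne_top inferInstance)

/-- Every finite lower bound for the number of branches of `R_p` is realised by the
minimal primes through a point of an étale `R`-algebra with trivial residue field extension. -/
theorem exists_etale_le_encard_of_le_numBranches (Rp : Type u) [CommRing Rp] [Algebra R Rp]
    [IsLocalization.AtPrime Rp p] [IsLocalRing Rp] (n : ℕ)
    (hn : (n : ℕ∞) ≤ Brnch.numBranches Rp) :
    ∃ (C : Type u) (_ : CommRing C) (_ : Algebra R C) (_ : Algebra.Etale R C) (q' : Ideal C)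
      (_ : q'.IsPrime), q'.comap (algebraMap R C) = p ∧ EH.ResTriv R C p q' ∧
        (n : ℕ∞) ≤ {Q : Ideal C | Q ∈ minimalPrimes C ∧ Q ≤ q'}.encard := by
  let eR : Rp ≃ₐ[R] Localization.AtPrime p := IsLocalization.algEquiv p.primeCompl _ _
  rw [numBranches_eq_of_ringEquiv eR.toRingEquiv] at hn
  set Rp' := Localization.AtPrime p
  set Ah := Henselization Rp'
  letI : Algebra R Ah := ((algebraMap Rp' Ah).comp (algebraMap R Rp')).toAlgebra
  haveI : IsScalarTower R Rp' Ah := IsScalarTower.of_algebraMap_eq fun _ => rfl
  haveI hS : Hensel.IsHenselization Rp' Ah := isHenselization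
  have hcrit : Crit R Ah := crit_henselization_atPrime R p Ah
  haveI : Module.FaithfullyFlat Rp' Ah := faithfullyFlat_of_isHenselization (R := Rp') _
  haveI : Module.Flat R Ah := Module.Flat.trans R Rp' Ah
  rw [← card_minimalPrimes_eq_numBranches Rp' Ah] at hn
  obtain ⟨C, _, _, _, g, hg⟩ := exists_etale_le_encard hcrit n hn
  have hRAh : (maximalIdeal Ah).comap (algebraMap R Ah) = p := by
    have h2 : (maximalIdeal Ah).comap (algebraMap R Ah) =
        ((maximalIdeal Ah).comap (algebraMap Rp' Ah)).comap (algebraMap R Rp') := by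
      rw [Ideal.comap_comap, ← IsScalarTower.algebraMap_eq]
    rw [h2]
    have h3 : (maximalIdeal Ah).comap (algebraMap Rp' Ah) = maximalIdeal Rp' :=
      ((local_hom_TFAE (algebraMap Rp' Ah)).out 0 4).mp
        (inferInstance : IsLocalHom (algebraMap Rp' Ah))
    rw [h3]
    exact IsLocalization.AtPrime.under_maximalIdeal Rp' p
  refine ⟨C, inferInstance, inferInstance, inferInstance, (maximalIdeal Ah).comap g.toRingHom,
    Ideal.comap_isPrime _ _, ?_, ?_, hg _ fun P hP => ?_⟩
  · have h1 : ((maximalIdeal Ah).comap g.toRingHom).comap (algebraMap R C) =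
        (maximalIdeal Ah).comap (algebraMap R Ah) := by
      ext r
      simp only [Ideal.mem_comap]
      show g (algebraMap R C r) ∈ _ ↔ _
      rw [g.commutes]
    rw [h1, hRAh]
  · intro c
    obtain ⟨ρ, hρ⟩ := residue_surjective_of_isHenselization (R := Rp') Ah (g c)
    obtain ⟨r, s, rfl⟩ := IsLocalization.exists_mk'_eq p.primeCompl ρ
    refine ⟨r, s, s.2, ?_⟩
    show g (algebraMap R C s * c - algebraMap R C r) ∈ maximalIdeal Ah
    rw [map_sub, map_mul, g.commutes, g.commutes]
    have h1 : algebraMap R Ah (s : R) * g c - algebraMap R Ah r =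
        algebraMap R Ah (s : R) * (g c - algebraMap Rp' Ah (IsLocalization.mk' Rp' r s)) := by
      rw [mul_sub, IsScalarTower.algebraMap_apply R Rp' Ah, IsScalarTower.algebraMap_apply R Rp' Ah r,
        ← map_mul, mul_comm _ (IsLocalization.mk' Rp' r s), IsLocalization.mk'_spec]
    rw [h1]
    exact Ideal.mul_mem_left _ _ hρ
  · haveI := hP.1.1
    exact le_maximalIdeal (Ideal.IsPrime.ne_top inferInstance)

end LowerBound2

section Etale

variable (R : Type u) [CommRing R] (S : Type u) [CommRing S] [Algebra R S] [Algebra.Etale R S]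
  (p : Ideal R) [p.IsPrime] (q : Ideal S) [q.IsPrime]

/-- The number of geometric branches is invariant under étale maps. -/
theorem numGeomBranches_eq_of_etale [q.LiesOver p]
    (Rp Sq : Type u) [CommRing Rp] [Algebra R Rp] [IsLocalization.AtPrime Rp p] [CommRing Sq]
    [Algebra S Sq] [IsLocalization.AtPrime Sq q] [IsLocalRing Rp] [IsLocalRing Sq] :
    Brnch.numGeomBranches Sq = Brnch.numGeomBranches Rp := by
  let eR : Rp ≃ₐ[R] Localization.AtPrime p := IsLocalization.algEquiv p.primeCompl _ _
  let eS : Sq ≃ₐ[S] Localization.AtPrime q := IsLocalization.algEquiv q.primeCompl _ _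
  rw [numGeomBranches_eq_of_ringEquiv eS.toRingEquiv, numGeomBranches_eq_of_ringEquiv eR.toRingEquiv]
  haveI := isStrictHenselization (R := Localization.AtPrime p)
  haveI := isStrictHenselization (R := Localization.AtPrime q)
  obtain ⟨e, -⟩ := exists_ringEquiv_of_etale R S p q
    (StrictHenselization (Localization.AtPrime p)) (StrictHenselization (Localization.AtPrime q))
  rw [← card_minimalPrimes_eq_numGeomBranches (Localization.AtPrime p)
      (StrictHenselization (Localization.AtPrime p)),
    ← card_minimalPrimes_eq_numGeomBranches (Localization.AtPrime q)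
      (StrictHenselization (Localization.AtPrime q))]
  exact (card_minimalPrimes_of_ringEquiv e).symm

/-- The number of branches is invariant under elementary étale maps. -/
theorem numBranches_eq_of_etale (hq : p = q.comap (algebraMap R S)) (hres : EH.ResTriv R S p q)
    (Rp Sq : Type u) [CommRing Rp] [Algebra R Rp] [IsLocalization.AtPrime Rp p] [CommRing Sq]
    [Algebra S Sq] [IsLocalization.AtPrime Sq q] [IsLocalRing Rp] [IsLocalRing Sq] :
    Brnch.numBranches Sq = Brnch.numBranches Rp := by
  let eR : Rp ≃ₐ[R] Localization.AtPrime p := IsLocalization.algEquiv p.primeCompl _ _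
  let eS : Sq ≃ₐ[S] Localization.AtPrime q := IsLocalization.algEquiv q.primeCompl _ _
  rw [numBranches_eq_of_ringEquiv eS.toRingEquiv, numBranches_eq_of_ringEquiv eR.toRingEquiv]
  haveI := isHenselization (R := Localization.AtPrime p)
  obtain ⟨_, _, hH⟩ := EH.exists_isHenselization R S p q hq hres
    (Henselization (Localization.AtPrime p))
  rw [← card_minimalPrimes_eq_numBranches (Localization.AtPrime p)
      (Henselization (Localization.AtPrime p)),
    ← card_minimalPrimes_eq_numBranches (Localization.AtPrime q)
      (Henselization (Localization.AtPrime p))]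

end Etale

end Groth.Agent.H8.Brnch
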