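import Mathlib
import Groth.Agent.Lib.Helper8.Brnch.EtaleCount
import Groth.Agent.Lib.Helper8.Brnch.Components
import Groth.Agent.Lib.Helper8.Hens.EtaleNbhdSch

/-!
# Counting branches through étale neighbourhoods: schemes (helper8)
-/

universe u
open CategoryTheory AlgebraicGeometry IsLocalRing

namespace Groth.Agent.H8.Brnch

open Groth.Agent.H8.Hens

/-- The number of geometric branches is invariant under étale morphisms. -/
theorem numGeomBranchesAt_eq_of_etale {U X : Scheme.{u}} (g : U ⟶ X) [Etale g] (u : U) :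
    Brnch.numGeomBranchesAt U u = Brnch.numGeomBranchesAt X (g u) := by
  obtain ⟨V, hV, hxV⟩ : ∃ V : X.Opens, IsAffineOpen V ∧ g u ∈ V := by
    obtain ⟨_, ⟨V, hV, rfl⟩, hxV, -⟩ :=
      X.isBasis_affineOpens.exists_subset_of_mem_open (Set.mem_univ (g u)) isOpen_univ
    exact ⟨V, hV, hxV⟩
  obtain ⟨W, hW, huW, e⟩ : ∃ W : U.Opens, IsAffineOpen W ∧ u ∈ W ∧ W ≤ g ⁻¹ᵁ V := by
    obtain ⟨_, ⟨W, hW, rfl⟩, hxW, hWV⟩ :=
      U.isBasis_affineOpens.exists_subset_of_mem_open (show u ∈ (g ⁻¹ᵁ V : Set U) from hxV)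
        (g ⁻¹ᵁ V).isOpen
    exact ⟨W, hW, hxW, hWV⟩
  have het : (g.appLE V W e).hom.Etale := g.etale_appLE hV hW e
  algebraize [(g.appLE V W e).hom]
  have het' : Algebra.Etale Γ(X, V) Γ(U, W) := het
  let q := (hW.primeIdealOf ⟨u, huW⟩).asIdeal
  let p := (hV.primeIdealOf ⟨g u, e huW⟩).asIdeal
  have hp : p = q.comap (algebraMap Γ(X, V) Γ(U, W)) := by
    have := IsAffineOpen.comap_primeIdealOf_appLE (f := g) V hV _ hW e huW
    exact (congrArg PrimeSpectrum.asIdeal this).symm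
  haveI : q.LiesOver p := ⟨hp⟩
  let _ := X.presheaf.algebra_section_stalk ⟨g u, e huW⟩
  let _ := U.presheaf.algebra_section_stalk ⟨u, huW⟩
  have h1 : IsLocalization.AtPrime (X.presheaf.stalk (g u)) p := hV.isLocalization_stalk ⟨g u, e huW⟩
  have h2 : IsLocalization.AtPrime (U.presheaf.stalk u) q := hW.isLocalization_stalk ⟨u, huW⟩
  exact numGeomBranches_eq_of_etale Γ(X, V) Γ(U, W) p q
    (X.presheaf.stalk (g u)) (U.presheaf.stalk u)

/-- The number of branches is invariant under elementary étale neighbourhoods. -/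
theorem numBranchesAt_eq_of_etaleNbhd {U X : Scheme.{u}} (g : U ⟶ X) [Etale g] (u : U)
    (hsurj : Function.Surjective (g.residueFieldMap u)) :
    Brnch.numBranchesAt U u = Brnch.numBranchesAt X (g u) := by
  obtain ⟨V, hV, hxV⟩ : ∃ V : X.Opens, IsAffineOpen V ∧ g u ∈ V := by
    obtain ⟨_, ⟨V, hV, rfl⟩, hxV, -⟩ :=
      X.isBasis_affineOpens.exists_subset_of_mem_open (Set.mem_univ (g u)) isOpen_univ
    exact ⟨V, hV, hxV⟩
  obtain ⟨W, hW, huW, e⟩ : ∃ W : U.Opens, IsAffineOpen W ∧ u ∈ W ∧ W ≤ g ⁻¹ᵁ V := by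
    obtain ⟨_, ⟨W, hW, rfl⟩, hxW, hWV⟩ :=
      U.isBasis_affineOpens.exists_subset_of_mem_open (show u ∈ (g ⁻¹ᵁ V : Set U) from hxV)
        (g ⁻¹ᵁ V).isOpen
    exact ⟨W, hW, hxW, hWV⟩
  have hres := EH.resTriv_of_surjective_residueFieldMap g u hsurj hV hW e huW
  have het : (g.appLE V W e).hom.Etale := g.etale_appLE hV hW e
  algebraize [(g.appLE V W e).hom]
  have het' : Algebra.Etale Γ(X, V) Γ(U, W) := het
  let q := (hW.primeIdealOf ⟨u, huW⟩).asIdeal
  let p := (hV.primeIdealOf ⟨g u, e huW⟩).asIdeal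
  have hp : p = q.comap (algebraMap Γ(X, V) Γ(U, W)) := by
    have := IsAffineOpen.comap_primeIdealOf_appLE (f := g) V hV _ hW e huW
    exact (congrArg PrimeSpectrum.asIdeal this).symm
  let _ := X.presheaf.algebra_section_stalk ⟨g u, e huW⟩
  let _ := U.presheaf.algebra_section_stalk ⟨u, huW⟩
  have h1 : IsLocalization.AtPrime (X.presheaf.stalk (g u)) p := hV.isLocalization_stalk ⟨g u, e huW⟩
  have h2 : IsLocalization.AtPrime (U.presheaf.stalk u) q := hW.isLocalization_stalk ⟨u, huW⟩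
  exact numBranches_eq_of_etale Γ(X, V) Γ(U, W) p q hp hres
    (X.presheaf.stalk (g u)) (U.presheaf.stalk u)

/-- Minimal primes inside `q'` give irreducible components of `Spec C` through `q'`. -/
theorem encard_minimalPrimes_le_components (C : Type u) [CommRing C] (q' : Ideal C) [q'.IsPrime] :
    {Q : Ideal C | Q ∈ minimalPrimes C ∧ Q ≤ q'}.encard ≤
      {Z : Set (Spec (CommRingCat.of C)) | Z ∈ irreducibleComponents (Spec (CommRingCat.of C)) ∧
        (⟨q', inferInstance⟩ : Spec (CommRingCat.of C)) ∈ Z}.encard := by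
  have hinj : Set.InjOn (fun Q : Ideal C => PrimeSpectrum.zeroLocus (Q : Set C))
      {Q : Ideal C | Q ∈ minimalPrimes C ∧ Q ≤ q'} := by
    intro Q hQ Q' hQ' heq
    haveI := hQ.1.1.1
    haveI := hQ'.1.1.1
    have h1 := congrArg PrimeSpectrum.vanishingIdeal heq
    simp only [PrimeSpectrum.vanishingIdeal_zeroLocus_eq_radical] at h1
    rwa [Ideal.IsPrime.radical inferInstance, Ideal.IsPrime.radical inferInstance] at h1
  rw [← hinj.encard_image]
  apply Set.encard_le_encard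
  rintro _ ⟨Q, hQ, rfl⟩
  refine ⟨?_, ?_⟩
  · have := PrimeSpectrum.zeroLocus_minimalPrimes C
    show PrimeSpectrum.zeroLocus (Q : Set C) ∈ irreducibleComponents (PrimeSpectrum C)
    rw [← this]
    exact ⟨Q, hQ.1, rfl⟩
  · show (⟨q', inferInstance⟩ : PrimeSpectrum C) ∈ PrimeSpectrum.zeroLocus (Q : Set C)
    rw [PrimeSpectrum.mem_zeroLocus]
    exact hQ.2

end Groth.Agent.H8.Brnch
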