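import Mathlib
import Groth.Agent.Lib.Helper8.Brnch.EtaleCount
import Groth.Agent.Lib.Helper8.Hens.FlatDescent
import Groth.Agent.Lib.Helper8.Hens.LocalTensor
import Groth.Agent.Lib.Helper8.Hens.Transfer

/-!
# Branch numbers along flat local homomorphisms (helper8)
-/

universe u
open IsLocalRing

namespace Groth.Agent.H8.Brnch

open Groth.Agent.H8.Hens

variable (A A' : Type u) [CommRing A] [IsLocalRing A] [CommRing A'] [IsLocalRing A'] [Algebra A A']
  [Module.Flat A A'] [IsLocalHom (algebraMap A A')]

/-- The number of branches does not decrease along a flat local homomorphism. -/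
theorem numBranches_le_of_flat : Brnch.numBranches A ≤ Brnch.numBranches A' := by
  set S := Henselization A
  set S' := Henselization A'
  haveI hS : Hensel.IsHenselization A S := isHenselization
  haveI hS' : Hensel.IsHenselization A' S' := isHenselization
  haveI : HenselianLocalRing S' := hS'.henselian
  let f : A →+* S' := (algebraMap A' S').comp (algebraMap A A')
  haveI hf : IsLocalHom f := RingHom.isLocalHom_comp _ _
  obtain ⟨g, hg, -⟩ := hS.universal S' f hf
  letI : Algebra A S' := f.toAlgebra
  letI : Algebra S S' := g.toAlgebra
  haveI : IsScalarTower A A' S' := IsScalarTower.of_algebraMap_eq fun _ => rfl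
  haveI : IsScalarTower A S S' := IsScalarTower.of_algebraMap_eq fun a =>
    (congrArg (fun w => w a) hg).symm
  haveI : Module.FaithfullyFlat A' S' := faithfullyFlat_of_isHenselization (R := A') _
  haveI : Module.Flat A S' := Module.Flat.trans A A' S'
  haveI : Module.Flat S S' := flat_of_flat_base_of_isHenselization (R := A) (S := S) S'
  haveI : IsLocalHom (algebraMap S S') :=
    isLocalHom_of_isHenselization (R := A) S g (by rw [hg]; exact hf)
  haveI : Module.FaithfullyFlat S S' := Module.FaithfullyFlat.of_flat_of_isLocalHom
  rw [← card_minimalPrimes_eq_numBranches A S, ← card_minimalPrimes_eq_numBranches A' S']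
  exact card_minimalPrimes_le_of_injective _ (FaithfulSMul.algebraMap_injective S S')

/-- The number of geometric branches does not decrease along a flat local homomorphism. -/
theorem numGeomBranches_le_of_flat : Brnch.numGeomBranches A ≤ Brnch.numGeomBranches A' := by
  set S := StrictHenselization A
  set S' := StrictHenselization A'
  haveI hS : Hensel.IsStrictHenselization A S := isStrictHenselization
  haveI hS' : Hensel.IsStrictHenselization A' S' := isStrictHenselization
  haveI : HenselianLocalRing S' := hS'.henselian
  haveI : IsSepClosed (ResidueField S') := hS'.isSepClosure.sep_closed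
  let f : A →+* S' := (algebraMap A' S').comp (algebraMap A A')
  haveI hf : IsLocalHom f := RingHom.isLocalHom_comp _ _
  obtain ⟨g, hg, hgloc⟩ := LT.exists_lift_of_isSepClosed (A := A) (S := S) S' f
  letI : Algebra A S' := f.toAlgebra
  letI : Algebra S S' := g.toAlgebra
  haveI : IsScalarTower A A' S' := IsScalarTower.of_algebraMap_eq fun _ => rfl
  haveI : IsScalarTower A S S' := IsScalarTower.of_algebraMap_eq fun a =>
    (congrArg (fun w => w a) hg).symm
  haveI : Module.FaithfullyFlat A' S' := faithfullyFlat_of_isStrictHenselization (R := A') _
  haveI : Module.Flat A S' := Module.Flat.trans A A' S'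
  haveI : Module.Flat S S' := flat_of_flat_base_of_isStrictHenselization (R := A) (S := S) S'
  haveI : IsLocalHom (algebraMap S S') := hgloc
  haveI : Module.FaithfullyFlat S S' := Module.FaithfullyFlat.of_flat_of_isLocalHom
  rw [← card_minimalPrimes_eq_numGeomBranches A S, ← card_minimalPrimes_eq_numGeomBranches A' S']
  exact card_minimalPrimes_le_of_injective _ (FaithfulSMul.algebraMap_injective S S')

end Groth.Agent.H8.Brnch
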