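import Mathlib
import Groth.Agent.Lib.Helper8.Brnch.FlatLocal
import Groth.Agent.Lib.Helper8.Hens.CompFlat
import Groth.Agent.Lib.Helper8.Hens.QFHens
import Groth.Agent.Lib.Helper8.Hens.Noeth

/-!
# Minimal primes along faithfully flat maps: fibres of the contraction map (helper8)
-/

universe u
open IsLocalRing

namespace Groth.Agent.H8.Brnch

open Groth.Agent.H8.Hens

section Flat

variable {S T : Type*} [CommRing S] [CommRing T] [Algebra S T]

/-- For a minimal prime `q` of `S` and `T` flat over `S`, the minimal primes over `qT` are minimal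
primes of `T` lying over `q`. -/
theorem mem_minimalPrimes_of_mem_minimalPrimes_map [Module.Flat S T] {q : Ideal S}
    (hq : q ∈ minimalPrimes S) {Q : Ideal T} (hQ : Q ∈ (q.map (algebraMap S T)).minimalPrimes) :
    Q ∈ minimalPrimes T ∧ Q.comap (algebraMap S T) = q := by
  haveI := hQ.1.1
  haveI := hq.1.1
  have hle : q ≤ Q.under S := Ideal.map_le_iff_le_comap.mp hQ.1.2
  obtain ⟨Q', hQ'le, hQ'prime, hQ'over⟩ :=
    Ideal.exists_ideal_le_liesOver_of_le (p := q) (q := Q.under S) Q hle
  have h1 : q.map (algebraMap S T) ≤ Q' := by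
    rw [Ideal.map_le_iff_le_comap]
    exact hQ'over.over.le
  have h2 : Q ≤ Q' := hQ.2 ⟨hQ'prime, h1⟩ hQ'le
  have h3 : Q = Q' := le_antisymm h2 hQ'le
  have h4 : Q.comap (algebraMap S T) = q := by
    rw [h3]; exact hQ'over.over.symm
  refine ⟨⟨⟨inferInstance, bot_le⟩, fun Q'' hQ'' hle'' => ?_⟩, h4⟩
  haveI := hQ''.1
  have h5 : Q''.comap (algebraMap S T) ≤ q := h4 ▸ Ideal.comap_mono hle''
  have h6 : q ≤ Q''.comap (algebraMap S T) :=
    hq.2 ⟨Ideal.comap_isPrime _ _, bot_le⟩ h5
  exact hQ.2 ⟨hQ''.1, Ideal.map_le_iff_le_comap.mpr h6⟩ hle''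

/-- A minimal prime of `T` is minimal over the extension of its contraction. -/
theorem mem_minimalPrimes_map_comap {Q : Ideal T} (hQ : Q ∈ minimalPrimes T) :
    Q ∈ ((Q.comap (algebraMap S T)).map (algebraMap S T)).minimalPrimes :=
  ⟨⟨hQ.1.1, Ideal.map_comap_le⟩, fun _ hQ' hle => hQ.2 ⟨hQ'.1, bot_le⟩ hle⟩

variable (S T) in
/-- For `T` faithfully flat over `S`, both with finitely many minimal primes: the numbers of minimal
primes agree iff the extension of every minimal prime of `S` has prime radical. -/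
theorem card_minimalPrimes_eq_iff_of_faithfullyFlat [Module.FaithfullyFlat S T]
    (hfinT : (minimalPrimes T).Finite) :
    ENat.card (minimalPrimes S) = ENat.card (minimalPrimes T) ↔
      ∀ q ∈ minimalPrimes S, (q.map (algebraMap S T)).radical.IsPrime := by
  obtain ⟨hmaps, hsurj⟩ := minimalPrimes_comap_of_faithfullyFlat S T
  let c : minimalPrimes T → minimalPrimes S := fun Q => ⟨_, hmaps Q.2⟩
  have hc : Function.Surjective c := by
    rintro ⟨q, hq⟩
    obtain ⟨Q, hQ, rfl⟩ := hsurj hq
    exact ⟨⟨Q, hQ⟩, rfl⟩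
  haveI : Finite (minimalPrimes T) := hfinT
  haveI : Finite (minimalPrimes S) := Finite.of_surjective c hc
  constructor
  · intro hcard q hq
    have hcard' : Nat.card (minimalPrimes T) ≤ Nat.card (minimalPrimes S) := by
      have h1 := ENat.card_eq_coe_natCard (minimalPrimes S)
      have h2 := ENat.card_eq_coe_natCard (minimalPrimes T)
      rw [h1, h2] at hcard
      exact (Nat.cast_injective hcard).ge
    have hbij := hc.bijective_of_nat_card_le hcard'
    obtain ⟨⟨Q₀, hQ₀⟩, hcQ₀⟩ := hc ⟨q, hq⟩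
    have hQ₀q : Q₀.comap (algebraMap S T) = q := congrArg Subtype.val hcQ₀
    have hset : (q.map (algebraMap S T)).minimalPrimes = {Q₀} := by
      ext Q
      simp only [Set.mem_singleton_iff]
      constructor
      · intro hQ
        obtain ⟨hQmin, hQq⟩ := mem_minimalPrimes_of_mem_minimalPrimes_map hq hQ
        have : c ⟨Q, hQmin⟩ = c ⟨Q₀, hQ₀⟩ := Subtype.ext (hQq.trans hQ₀q.symm)
        exact congrArg Subtype.val (hbij.1 this)
      · rintro rfl
        have := mem_minimalPrimes_map_comap (S := S) hQ₀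
        rwa [hQ₀q] at this
    rw [← Ideal.sInf_minimalPrimes, hset, sInf_singleton]
    exact hQ₀.1.1
  · intro H
    have hinj : Function.Injective c := by
      rintro ⟨Q₁, hQ₁⟩ ⟨Q₂, hQ₂⟩ h12
      have h12' : Q₁.comap (algebraMap S T) = Q₂.comap (algebraMap S T) := congrArg Subtype.val h12
      set q := Q₂.comap (algebraMap S T) with hq
      have hP := H q (hmaps hQ₂)
      have key : ∀ Q ∈ minimalPrimes T, Q.comap (algebraMap S T) = q →
          Q = (q.map (algebraMap S T)).radical := by
        intro Q hQ hQq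
        haveI := hQ.1.1
        have h1 : (q.map (algebraMap S T)).radical ≤ Q := by
          rw [Ideal.IsPrime.radical_le_iff hQ.1.1, ← hQq]
          exact Ideal.map_comap_le
        exact le_antisymm (hQ.2 ⟨hP, bot_le⟩ h1) h1
      exact Subtype.ext ((key Q₁ hQ₁ h12').trans (key Q₂ hQ₂ rfl).symm)
    exact (ENat.card_congr (Equiv.ofBijective c ⟨hinj, hc⟩)).symm

end Flat

end Groth.Agent.H8.Brnch
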