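import Mathlib

/-!
# A connected Noetherian ring with integral local rings is a domain (helper8)
-/

universe u

namespace Groth.Agent.H8.SmoothBr

variable (Z : Type*) [CommRing Z]

/-- If the local rings at maximal ideals are domains, two distinct minimal primes are coprime. -/
theorem sup_eq_top_of_mem_minimalPrimes
    (hloc : ∀ (m : Ideal Z) [m.IsMaximal], IsDomain (Localization.AtPrime m))
    {P P' : Ideal Z} (hP : P ∈ minimalPrimes Z) (hP' : P' ∈ minimalPrimes Z) (hne : P ≠ P') :
    P ⊔ P' = ⊤ := by
  by_contra htop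
  obtain ⟨m, hm, hle⟩ := Ideal.exists_le_maximal _ htop
  haveI := hm
  haveI := hloc m
  have key : ∀ Q : Ideal Z, Q ∈ minimalPrimes Z → Q ≤ m →
      Q = (⊥ : Ideal (Localization.AtPrime m)).comap (algebraMap Z (Localization.AtPrime m)) := by
    intro Q hQ hQm
    haveI := hQ.1.1
    have hdisj : Disjoint (m.primeCompl : Set Z) Q := by
      rw [Set.disjoint_left]
      intro x hx hxQ
      exact hx (hQm hxQ)
    have h1 : (Q.map (algebraMap Z (Localization.AtPrime m))).comap
        (algebraMap Z (Localization.AtPrime m)) = Q :=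
      IsLocalization.under_map_of_isPrime_disjoint m.primeCompl _ hQ.1.1 hdisj
    have h2 : Q.map (algebraMap Z (Localization.AtPrime m)) ∈
        minimalPrimes (Localization.AtPrime m) := by
      have h3 := IsLocalization.minimalPrimes_map m.primeCompl (Localization.AtPrime m)
        (⊥ : Ideal Z)
      rw [Ideal.map_bot] at h3
      show Q.map (algebraMap Z (Localization.AtPrime m)) ∈
        (⊥ : Ideal (Localization.AtPrime m)).minimalPrimes
      rw [h3, Set.mem_preimage]
      show (Q.map (algebraMap Z (Localization.AtPrime m))).comap _ ∈ _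
      rw [h1]
      exact hQ
    rw [IsDomain.minimalPrimes_eq_singleton_bot, Set.mem_singleton_iff] at h2
    rw [← h2, h1]
  exact hne ((key P hP (le_sup_left.trans hle)).trans (key P' hP' (le_sup_right.trans hle)).symm)

variable [IsNoetherianRing Z]

/-- In a Noetherian ring whose local rings at maximal ideals are domains, two distinct minimal
primes are separated by an idempotent. -/
theorem exists_idempotent_of_mem_minimalPrimes
    (hloc : ∀ (m : Ideal Z) [m.IsMaximal], IsDomain (Localization.AtPrime m))
    {P1 P2 : Ideal Z} (hP1 : P1 ∈ minimalPrimes Z) (hP2 : P2 ∈ minimalPrimes Z) (hne : P1 ≠ P2) :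
    ∃ e : Z, IsIdempotentElem e ∧ e ∈ P1 ∧ 1 - e ∈ P2 := by
  classical
  haveI : IsReduced Z := isReduced_ofLocalizationMaximal Z fun m hm => by
    haveI := hm
    haveI := hloc m
    infer_instance
  have hfin : (minimalPrimes Z).Finite := minimalPrimes.finite_of_isNoetherianRing Z
  haveI := hP1.1.1
  let s : Finset (Ideal Z) := hfin.toFinset.erase P1
  let J : Ideal Z := ⨅ Q ∈ s, Q
  have hcop : P1 ⊔ J = ⊤ := by
    apply Ideal.sup_iInf_eq_top
    intro Q hQ
    rw [Finset.mem_erase, Set.Finite.mem_toFinset] at hQ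
    exact sup_eq_top_of_mem_minimalPrimes Z hloc hP1 hQ.2 (Ne.symm hQ.1)
  have hinf : P1 ⊓ J = ⊥ := by
    rw [eq_bot_iff]
    intro x hx
    have hx' : x ∈ nilradical Z := by
      rw [nilradical, ← Ideal.sInf_minimalPrimes, Ideal.mem_sInf]
      intro Q hQ
      by_cases hQP : Q = P1
      · rw [hQP]; exact hx.1
      · have hQs : Q ∈ s := by
          rw [Finset.mem_erase, Set.Finite.mem_toFinset]
          exact ⟨hQP, hQ⟩
        have h5 : x ∈ J := hx.2
        rw [Ideal.mem_iInf] at h5
        have h6 := h5 Q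
        rw [Ideal.mem_iInf] at h6
        exact h6 hQs
    rw [nilradical_eq_zero] at hx'
    exact hx'
  have hJP2 : J ≤ P2 := by
    have hP2s : P2 ∈ s := by
      rw [Finset.mem_erase, Set.Finite.mem_toFinset]
      exact ⟨Ne.symm hne, hP2⟩
    intro x hx
    rw [Ideal.mem_iInf] at hx
    have h6 := hx P2
    rw [Ideal.mem_iInf] at h6
    exact h6 hP2s
  obtain ⟨a, ha, b, hb, hab⟩ := Submodule.mem_sup.mp (hcop ▸ Submodule.mem_top : (1 : Z) ∈ P1 ⊔ J)
  have hab0 : a * b = 0 := by
    have : a * b ∈ P1 ⊓ J := ⟨P1.mul_mem_right _ ha, J.mul_mem_left _ hb⟩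
    rw [hinf] at this
    exact this
  have hidem : IsIdempotentElem a := by
    show a * a = a
    calc a * a = a * (a + b) - a * b := by ring
      _ = a := by rw [hab, hab0]; ring
  refine ⟨a, hidem, ha, ?_⟩
  have : 1 - a = b := by rw [← hab]; ring
  rw [this]
  exact hJP2 hb

end Groth.Agent.H8.SmoothBr
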