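import Mathlib
import Groth.Agent.Lib.Helper8.Hens.EtaleGU
import Groth.Agent.Lib.Helper8.Hens.Normal
import Groth.Agent.Lib.Helper8.Hens.GeomUnibranch

/-!
# Local rings of smooth algebras over a field are domains (helper8)
-/

universe u
open IsLocalRing

namespace Groth.Agent.H8.SmoothBr

open Groth.Agent.H8.Hens

/-- A normal local domain is geometrically unibranch. -/
theorem isGeomUnibranch_of_isIntegrallyClosed (A : Type u) [CommRing A] [IsLocalRing A] [IsDomain A]
    [IsIntegrallyClosed A] : CAlg2.IsGeomUnibranch A := by
  haveI := isStrictHenselization (R := A)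
  have h := (normal_iff_of_isStrictHenselization (R := A) (StrictHenselization A)).mp
    ⟨inferInstance, inferInstance⟩
  exact ((GU.geomUnibranch_iff_isDomain A (StrictHenselization A)).mpr h.1).2

/-- The local rings of a smooth algebra over a field are domains. -/
theorem isDomain_localization_of_smooth_field (K Z : Type u) [Field K] [CommRing Z] [Algebra K Z]
    [Algebra.Smooth K Z] (m : Ideal Z) [m.IsPrime] : IsDomain (Localization.AtPrime m) := by
  obtain ⟨f, hfm, n, _, _, _⟩ :=
    Algebra.IsSmoothAt.exists_isStandardEtale_mvPolynomial (R := K) (p := m)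
  set P := MvPolynomial (Fin n) K
  set Zf := Localization.Away f
  have hdisj : Disjoint (Submonoid.powers f : Set Z) (m : Set Z) :=
    (Ideal.disjoint_powers_iff_notMem_of_isPrime _).mpr hfm
  let q0 : Ideal Zf := m.map (algebraMap Z Zf)
  haveI hq0 : q0.IsPrime := IsLocalization.isPrime_of_isPrime_disjoint (.powers f) _ _ ‹_› hdisj
  have hq0c : q0.comap (algebraMap Z Zf) = m :=
    IsLocalization.under_map_of_isPrime_disjoint (.powers f) _ ‹_› hdisj
  let p0 : Ideal P := q0.comap (algebraMap P Zf)
  haveI : p0.IsPrime := Ideal.comap_isPrime _ _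
  haveI : q0.LiesOver p0 := ⟨rfl⟩
  haveI : IsIntegrallyClosed (Localization.AtPrime p0) :=
    isIntegrallyClosed_of_isLocalization _ p0.primeCompl p0.primeCompl_le_nonZeroDivisors
  have hG := isGeomUnibranch_of_isIntegrallyClosed (Localization.AtPrime p0)
  obtain ⟨hD, -⟩ := isDomain_and_isGeomUnibranch_of_etale P Zf p0 q0 inferInstance hG
  have h2 : IsLocalization.AtPrime (Localization.AtPrime q0) m := by
    have := IsLocalization.isLocalization_isLocalization_atPrime_isLocalization
      (Submonoid.powers f) (Localization.AtPrime q0) q0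
    have hpc : (q0.comap (algebraMap Z Zf)).primeCompl = m.primeCompl := by
      ext x
      simp only [Ideal.primeCompl, Submonoid.mem_mk, Subsemigroup.mem_mk, Set.mem_compl_iff,
        SetLike.mem_coe, hq0c]
    change IsLocalization m.primeCompl _
    rw [← hpc]
    exact this
  exact (IsLocalization.algEquiv m.primeCompl (Localization.AtPrime m)
    (Localization.AtPrime q0)).toMulEquiv.isDomain _

end Groth.Agent.H8.SmoothBr
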