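import Mathlib
import Groth.Agent.Lib.Helper8.Brnch.ConnDomain
import Groth.Agent.Lib.Helper8.Brnch.SmoothField
import Groth.Agent.Lib.Helper8.Hens.IntegralHens
import Groth.Agent.Lib.Helper8.Hens.ShTensorIntegral
import Groth.Agent.Lib.Helper8.Hens.PITensor2
import Groth.Agent.Lib.Helper8.Hens.Normal
import Groth.Agent.Lib.Helper8.Hens.SmoothReduced
import Groth.Agent.Lib.Helper8.Brnch.GUCrit

/-!
# Local rings of smooth algebras over a strictly henselian local domain are domains (helper8)
-/

universe u
open IsLocalRing TensorProduct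

namespace Groth.Agent.H8.SmoothBr

open Groth.Agent.H8.Hens

section Generic

variable (R : Type u) [CommRing R] [IsDomain R] (C : Type u) [CommRing C] [Algebra R C]
  [Algebra.Smooth R C]

/-- The generic fibre `C ⊗_R K` as a ring: Noetherian. -/
theorem isNoetherianRing_generic : IsNoetherianRing (C ⊗[R] FractionRing R) := by
  haveI : IsNoetherianRing (FractionRing R ⊗[R] C) :=
    Algebra.FiniteType.isNoetherianRing (FractionRing R) _
  exact isNoetherianRing_of_ringEquiv _
    (Algebra.TensorProduct.comm R (FractionRing R) C).toRingEquiv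

/-- The local rings of the generic fibre are domains. -/
theorem isDomain_localization_generic (m : Ideal (C ⊗[R] FractionRing R)) [m.IsPrime] :
    IsDomain (Localization.AtPrime m) := by
  let φ : FractionRing R ⊗[R] C ≃+* C ⊗[R] FractionRing R :=
    (Algebra.TensorProduct.comm R (FractionRing R) C).toRingEquiv
  let m' : Ideal (FractionRing R ⊗[R] C) := m.comap (φ : _ →+* _)
  haveI : m'.IsPrime := Ideal.comap_isPrime _ _
  haveI := isDomain_localization_of_smooth_field (FractionRing R) (FractionRing R ⊗[R] C) m'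
  have hmap : m'.primeCompl.map (φ : (FractionRing R ⊗[R] C) →* _) = m.primeCompl := by
    ext x
    constructor
    · rintro ⟨y, hy, rfl⟩
      exact hy
    · intro hx
      refine ⟨φ.symm x, ?_, by simp⟩
      show φ.symm x ∉ m'
      rw [Ideal.mem_comap]
      simpa using hx
  let e : Localization.AtPrime m' ≃+* Localization.AtPrime m :=
    IsLocalization.ringEquivOfRingEquiv (M := m'.primeCompl) (T := m.primeCompl)
      (Localization.AtPrime m') (Localization.AtPrime m) φ hmap
  exact e.symm.toMulEquiv.isDomain _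

end Generic

section Flat

theorem algebraMapSubmonoid_le_nonZeroDivisors_of_flat (R C : Type*) [CommRing R] [CommRing C]
    [Algebra R C] [Module.Flat R C] :
    Algebra.algebraMapSubmonoid C (nonZeroDivisors R) ≤ nonZeroDivisors C := by
  rintro _ ⟨r, hr, rfl⟩
  rw [mem_nonZeroDivisors_iff_right]
  intro x hx
  have h1 : Function.Injective (fun y : C => r • y) :=
    Module.Flat.isSMulRegular_of_nonZeroDivisors (M := C) hr
  apply h1
  simp only [smul_zero]
  rw [Algebra.smul_def, mul_comm]
  exact hx

end Flat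

section Core

variable (R : Type u) [CommRing R] [IsDomain R] [HenselianLocalRing R]
  [IsSepClosed (ResidueField R)]
  (C : Type u) [CommRing C] [Algebra R C] [Algebra.Smooth R C]
  (q : Ideal C) [q.IsPrime]

include R in
/-- Key: over a strictly henselian local domain `R`, a prime `q` of a smooth `R`-algebra lying over
the maximal ideal contains only one minimal prime. -/
theorem eq_of_mem_minimalPrimes_of_le (hq : (maximalIdeal R).map (algebraMap R C) ≤ q)
    {P1 P2 : Ideal C} (h1 : P1 ∈ minimalPrimes C) (h2 : P2 ∈ minimalPrimes C)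
    (h1q : P1 ≤ q) (h2q : P2 ≤ q) : P1 = P2 := by
  by_contra hne
  set Rν := integralClosure R (FractionRing R) with hRν
  -- the generic fibre
  have hW0 := algebraMapSubmonoid_le_nonZeroDivisors_of_flat R C
  set W0 := Algebra.algebraMapSubmonoid C (nonZeroDivisors R) with hW0def
  have hdisj : ∀ P ∈ minimalPrimes C, Disjoint (W0 : Set C) P := fun P hP =>
    (Set.disjoint_of_subset_right hW0
      (Ideal.disjoint_nonZeroDivisors_of_mem_minimalPrimes hP)).symm
  have hprime : ∀ P ∈ minimalPrimes C,
      (P.map (algebraMap C (C ⊗[R] FractionRing R))).IsPrime := fun P hP =>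
    IsLocalization.isPrime_of_isPrime_disjoint W0 _ P hP.1.1 (hdisj P hP)
  have hcomap : ∀ P ∈ minimalPrimes C,
      (P.map (algebraMap C (C ⊗[R] FractionRing R))).comap
        (algebraMap C (C ⊗[R] FractionRing R)) = P := fun P hP =>
    IsLocalization.under_map_of_isPrime_disjoint W0 _ hP.1.1 (hdisj P hP)
  have hmin : ∀ P ∈ minimalPrimes C,
      P.map (algebraMap C (C ⊗[R] FractionRing R)) ∈ minimalPrimes (C ⊗[R] FractionRing R) := by
    intro P hP
    have h3 := IsLocalization.minimalPrimes_map W0 (C ⊗[R] FractionRing R) (⊥ : Ideal C)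
    rw [Ideal.map_bot] at h3
    show _ ∈ (⊥ : Ideal (C ⊗[R] FractionRing R)).minimalPrimes
    rw [h3, Set.mem_preimage]
    show (P.map _).comap _ ∈ _
    rw [hcomap P hP]
    exact hP
  haveI := isNoetherianRing_generic R C
  have hne' : P1.map (algebraMap C (C ⊗[R] FractionRing R)) ≠
      P2.map (algebraMap C (C ⊗[R] FractionRing R)) := by
    intro h
    apply hne
    rw [← hcomap P1 h1, ← hcomap P2 h2, h]
  obtain ⟨e, he, he1, he2⟩ := exists_idempotent_of_mem_minimalPrimes (C ⊗[R] FractionRing R)
    (fun m hm => isDomain_localization_generic R C m) (hmin P1 h1) (hmin P2 h2) hne'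
  -- `e` is integral over `C`, hence comes from `C ⊗ Rν`
  have he_int : IsIntegral C e := by
    refine ⟨Polynomial.X ^ 2 - Polynomial.X, Polynomial.monic_X_pow_sub (Polynomial.degree_X_le.trans_lt (by norm_num)), ?_⟩
    simp only [Polynomial.eval₂_sub, Polynomial.eval₂_pow, Polynomial.eval₂_X]
    rw [pow_two, he.eq, sub_self]
  have hbij := TensorProduct.toIntegralClosure_bijective_of_smooth (R := R) (S := C)
    (B := FractionRing R)
  obtain ⟨ε, hε⟩ := hbij.2 ⟨e, he_int⟩
  let ψ : C ⊗[R] integralClosure R (FractionRing R) →ₐ[C] C ⊗[R] FractionRing R :=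
    Algebra.TensorProduct.map (AlgHom.id C C) (integralClosure R (FractionRing R)).val
  have hψ : ∀ z, ψ z = (TensorProduct.toIntegralClosure R C (FractionRing R) z).1 := fun z => rfl
  have hψinj : Function.Injective ψ := by
    intro x y hxy
    apply hbij.1
    apply Subtype.ext
    rw [← hψ, ← hψ, hxy]
  have hψε : ψ ε = e := by rw [hψ, hε]
  have hεidem : IsIdempotentElem ε := by
    apply hψinj
    rw [map_mul, hψε, he.eq]
  -- the local ring `L ⊗ Rν`
  haveI : IsLocalRing Rν := isLocalRing_of_isDomain_of_isIntegral R Rν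
  haveI : IsLocalHom (algebraMap R Rν) := ShT.isLocalHom_of_isIntegral R Rν
  haveI : Algebra.IsAlgebraic (ResidueField R) (ResidueField Rν) := ShT.isAlgebraic_residueField R Rν
  set L := Localization.AtPrime q with hL
  haveI : IsLocalHom (algebraMap R L) := by
    constructor
    intro r hr
    by_contra hnu
    have h3 : r ∈ maximalIdeal R := (mem_maximalIdeal r).mpr hnu
    have h4 : algebraMap R C r ∈ q := hq (Ideal.mem_map_of_mem _ h3)
    have h5 : algebraMap C L (algebraMap R C r) ∈ maximalIdeal L :=
      (IsLocalization.AtPrime.to_map_mem_maximal_iff L q _).mpr h4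
    rw [← IsScalarTower.algebraMap_apply] at h5
    exact (mem_maximalIdeal _).mp h5 hr
  haveI : Nontrivial (L ⊗[R] Rν) := PI.nontrivial_tensor R L Rν
  haveI : IsLocalRing (L ⊗[R] Rν) := PI.isLocalRing_tensor R L Rν
  let g : C ⊗[R] Rν →ₗ[C] L ⊗[R] Rν :=
    TensorProduct.AlgebraTensorModule.rTensor R Rν (Algebra.linearMap C L)
  haveI : IsLocalizedModule q.primeCompl g := inferInstance
  let γ : C ⊗[R] Rν →ₐ[R] L ⊗[R] Rν :=
    Algebra.TensorProduct.map (IsScalarTower.toAlgHom R C L) (AlgHom.id R Rν)
  have hγg : ∀ z, γ z = g z := by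
    intro z
    induction z using TensorProduct.induction_on with
    | zero => simp
    | tmul c r => rfl
    | add x y hx hy => rw [map_add, map_add, hx, hy]
  have hγε : IsIdempotentElem (γ ε) := by
    show γ ε * γ ε = γ ε
    rw [← map_mul, hεidem.eq]
  have key : ∀ (z : C ⊗[R] Rν) (P : Ideal C), P ≤ q → g z = 0 →
      (1 - ψ z) ∈ P.map (algebraMap C (C ⊗[R] FractionRing R)) →
      (P.map (algebraMap C (C ⊗[R] FractionRing R))).comap
        (algebraMap C (C ⊗[R] FractionRing R)) = P → False := by
    intro z P hPq hz hmem hco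
    obtain ⟨s, hs⟩ := (IsLocalizedModule.eq_zero_iff q.primeCompl g).mp hz
    have h3 : (s : C) • ψ z = 0 := by
      have : ψ ((s : C) • z) = 0 := by
        have hs' : (s : C) • z = 0 := hs
        rw [hs', map_zero]
      rwa [map_smul] at this
    have h4 : algebraMap C (C ⊗[R] FractionRing R) (s : C) =
        algebraMap C (C ⊗[R] FractionRing R) (s : C) * (1 - ψ z) := by
      rw [mul_sub, mul_one, ← Algebra.smul_def, h3, sub_zero]
    have h5 : algebraMap C (C ⊗[R] FractionRing R) (s : C) ∈
        P.map (algebraMap C (C ⊗[R] FractionRing R)) := by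
      rw [h4]; exact Ideal.mul_mem_left _ _ hmem
    have h6 : (s : C) ∈ P := by
      rw [← hco]; exact h5
    exact s.2 (hPq h6)
  rcases eq_zero_or_one_of_isIdempotentElem _ hγε with h0 | h1'
  · refine key ε P2 h2q (by rw [← hγg, h0]) ?_ (hcomap P2 h2)
    rw [hψε]; exact he2
  · refine key (1 - ε) P1 h1q ?_ ?_ (hcomap P1 h1)
    · rw [← hγg, map_sub, map_one, h1', sub_self]
    · rw [map_sub, map_one, hψε, sub_sub_cancel]; exact he1

end Core

section Cor

variable (R : Type u) [CommRing R] [IsDomain R] [HenselianLocalRing R]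
  [IsSepClosed (ResidueField R)]
  (C : Type u) [CommRing C] [Algebra R C] [Algebra.Smooth R C]
  (q : Ideal C) [q.IsPrime]

include R in
/-- Over a strictly henselian local domain, the local ring of a smooth algebra at a prime over the
maximal ideal is a domain. -/
theorem isDomain_localization_of_smooth (hq : (maximalIdeal R).map (algebraMap R C) ≤ q) :
    IsDomain (Localization.AtPrime q) := by
  haveI : IsReduced C := isReduced_of_smooth R C
  set L := Localization.AtPrime q
  have hcomap_le : ∀ 𝔭 : Ideal L, 𝔭.IsPrime → 𝔭.comap (algebraMap C L) ≤ q := by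
    intro 𝔭 h𝔭 x hx
    by_contra hxq
    have h1 := ((IsLocalization.isPrime_iff_isPrime_disjoint q.primeCompl L 𝔭).mp h𝔭).2
    exact Set.disjoint_left.mp h1 hxq hx
  have hminC : ∀ 𝔭 ∈ minimalPrimes L, 𝔭.comap (algebraMap C L) ∈ minimalPrimes C := by
    intro 𝔭 h𝔭
    have h3 := IsLocalization.minimalPrimes_map q.primeCompl L (⊥ : Ideal C)
    rw [Ideal.map_bot] at h3
    have h4 : 𝔭 ∈ (⊥ : Ideal L).minimalPrimes := h𝔭
    rw [h3] at h4
    exact h4
  have huniq : ∀ 𝔭1 ∈ minimalPrimes L, ∀ 𝔭2 ∈ minimalPrimes L, 𝔭1 = 𝔭2 := by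
    intro 𝔭1 h1 𝔭2 h2
    have h := eq_of_mem_minimalPrimes_of_le R C q hq (hminC 𝔭1 h1) (hminC 𝔭2 h2)
      (hcomap_le 𝔭1 h1.1.1) (hcomap_le 𝔭2 h2.1.1)
    rw [← IsLocalization.map_under q.primeCompl L 𝔭1, ← IsLocalization.map_under q.primeCompl L 𝔭2]
    exact congrArg _ h
  obtain ⟨⟨𝔭, h𝔭⟩⟩ := Ideal.nonempty_minimalPrimes (I := (⊥ : Ideal L)) (by
    intro h
    exact (bot_ne_top (α := Ideal L)) h)
  have hbot : 𝔭 = ⊥ := by
    have h1 : nilradical L = 𝔭 := by
      rw [nilradical, ← Ideal.sInf_minimalPrimes]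
      apply le_antisymm
      · exact sInf_le h𝔭
      · apply le_sInf
        intro 𝔭' h𝔭'
        rw [huniq 𝔭' h𝔭' 𝔭 h𝔭]
    rw [← h1, nilradical_eq_zero]
    rfl
  have hprime : (⊥ : Ideal L).IsPrime := hbot ▸ h𝔭.1.1
  haveI : NoZeroDivisors L := ⟨fun {x y} hxy => by
    have h := hprime.mem_or_mem (show x * y ∈ (⊥ : Ideal L) from hxy)
    simpa using h⟩
  exact NoZeroDivisors.to_isDomain L

include R in
/-- Over a strictly henselian local domain, the local ring of a smooth algebra at a prime over the
maximal ideal is geometrically unibranch. -/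
theorem isGeomUnibranch_localization_of_smooth (hq : (maximalIdeal R).map (algebraMap R C) ≤ q) :
    CAlg2.IsGeomUnibranch (Localization.AtPrime q) := by
  apply Groth.Agent.H8.Brnch.isGeomUnibranch_localization_of_forall_etale C q
  intro E _ _ _ q' _ hq'
  letI : Algebra R E := ((algebraMap C E).comp (algebraMap R C)).toAlgebra
  haveI : IsScalarTower R C E := IsScalarTower.of_algebraMap_eq fun _ => rfl
  haveI : Algebra.Smooth R E := Algebra.Smooth.comp R C E
  have hq'R : (maximalIdeal R).map (algebraMap R E) ≤ q' := by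
    rw [Ideal.map_le_iff_le_comap]
    intro r hr
    rw [Ideal.mem_comap, IsScalarTower.algebraMap_apply R C E, ← Ideal.mem_comap, hq']
    exact hq (Ideal.mem_map_of_mem _ hr)
  haveI := isDomain_localization_of_smooth R E q' hq'R
  rw [nilradical_eq_zero]
  exact Ideal.isPrime_bot

end Cor

end Groth.Agent.H8.SmoothBr
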