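import Mathlib
import Groth.Agent.Lib.Helper8.Brnch.SmoothCore
import Groth.Agent.Lib.Helper8.Brnch.FlatFibres
import Groth.Agent.Lib.Helper8.Hens.StrictQuot
import Groth.Agent.Lib.Helper8.Hens.QuotHens
import Groth.Agent.Lib.Helper8.Hens.EtaleGU

/-!
# Smooth maps preserve the number of geometric branches (helper8)
-/

universe u
open IsLocalRing TensorProduct

namespace Groth.Agent.H8.SmoothBr

open Groth.Agent.H8.Hens Groth.Agent.H8.Brnch

section Flat

variable (S T : Type*) [CommRing S] [CommRing T] [Algebra S T]

/-- For `T` faithfully flat over `S`: if the extension of every minimal prime of `S` has prime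
radical, then `S` and `T` have the same number of minimal primes. -/
theorem card_minimalPrimes_eq_of_forall_radical_isPrime [Module.FaithfullyFlat S T]
    (H : ∀ q ∈ minimalPrimes S, (q.map (algebraMap S T)).radical.IsPrime) :
    ENat.card (minimalPrimes S) = ENat.card (minimalPrimes T) := by
  obtain ⟨hmaps, hsurj⟩ := minimalPrimes_comap_of_faithfullyFlat S T
  let c : minimalPrimes T → minimalPrimes S := fun Q => ⟨_, hmaps Q.2⟩
  have hc : Function.Surjective c := by
    rintro ⟨q, hq⟩
    obtain ⟨Q, hQ, rfl⟩ := hsurj hq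
    exact ⟨⟨Q, hQ⟩, rfl⟩
  have hinj : Function.Injective c := by
    rintro ⟨Q₁, hQ₁⟩ ⟨Q₂, hQ₂⟩ h12
    have h12' : Q₁.comap (algebraMap S T) = Q₂.comap (algebraMap S T) := congrArg Subtype.val h12
    set q := Q₂.comap (algebraMap S T) with hq
    have hP := H q (hmaps hQ₂)
    have key : ∀ Q ∈ minimalPrimes T, Q.comap (algebraMap S T) = q →
        Q = (q.map (algebraMap S T)).radical := by
      intro Q hQ hQq
      haveI := hQ.1.1
      have h1 : (q.map (algebraMap S T)).radical ≤ Q := by
        rw [Ideal.IsPrime.radical_le_iff hQ.1.1, ← hQq]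
        exact Ideal.map_comap_le
      exact le_antisymm (hQ.2 ⟨hP, bot_le⟩ h1) h1
    exact Subtype.ext ((key Q₁ hQ₁ h12').trans (key Q₂ hQ₂ rfl).symm)
  exact (ENat.card_congr (Equiv.ofBijective c ⟨hinj, hc⟩)).symm

/-- The radical of `I` is prime if the nilradical of `T/I` is prime. -/
theorem radical_isPrime_of_nilradical_quotient (I : Ideal T)
    (h : (nilradical (T ⧸ I)).IsPrime) : I.radical.IsPrime := by
  have : I.radical = (nilradical (T ⧸ I)).comap (Ideal.Quotient.mk I) := by
    ext x
    rw [Ideal.mem_comap, mem_nilradical, Ideal.mem_radical_iff]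
    constructor
    · rintro ⟨n, hn⟩
      exact ⟨n, by rw [← map_pow]; exact Ideal.Quotient.eq_zero_iff_mem.mpr hn⟩
    · rintro ⟨n, hn⟩
      exact ⟨n, by rw [← map_pow] at hn; exact Ideal.Quotient.eq_zero_iff_mem.mp hn⟩
  rw [this]
  exact Ideal.comap_isPrime _ _

end Flat

section Quot

/-- The residue field of a quotient of a local ring with separably closed residue field is
separably closed. -/
theorem isSepClosed_residueField_quotient (R : Type u) [CommRing R] [IsLocalRing R]
    [IsSepClosed (ResidueField R)] (P : Ideal R) [IsLocalRing (R ⧸ P)] :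
    IsSepClosed (ResidueField (R ⧸ P)) := by
  haveI : IsLocalHom (Ideal.Quotient.mk P) := .of_surjective _ Ideal.Quotient.mk_surjective
  letI : Algebra (ResidueField R) (ResidueField (R ⧸ P)) :=
    (ResidueField.map (Ideal.Quotient.mk P)).toAlgebra
  have hsurj : Function.Surjective (algebraMap (ResidueField R) (ResidueField (R ⧸ P))) := by
    intro x
    obtain ⟨y, rfl⟩ := residue_surjective x
    obtain ⟨s, rfl⟩ := Ideal.Quotient.mk_surjective y
    exact ⟨residue R s, ResidueField.map_residue _ _⟩
  haveI : Algebra.IsAlgebraic (ResidueField R) (ResidueField (R ⧸ P)) := by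
    refine ⟨fun x => ?_⟩
    obtain ⟨y, rfl⟩ := hsurj x
    exact isAlgebraic_algebraMap y
  exact Algebra.IsAlgebraic.isSepClosed (F := ResidueField R)

/-- Smoothness passes to quotients by an extended ideal. -/
theorem smooth_quotient (R S : Type u) [CommRing R] [CommRing S] [Algebra R S] [Algebra.Smooth R S]
    (P : Ideal R) : Algebra.Smooth (R ⧸ P) (S ⧸ P.map (algebraMap R S)) :=
  Algebra.Smooth.of_equiv (Algebra.TensorProduct.quotIdealMapEquivQuotTensor S P).symm

end Quot

section Count

variable (R : Type u) [CommRing R] [HenselianLocalRing R] [IsSepClosed (ResidueField R)]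
  (S : Type u) [CommRing S] [Algebra R S] [Algebra.Smooth R S]
  (q : Ideal S) [q.IsPrime]
  (Dsh : Type u) [CommRing Dsh] [IsLocalRing Dsh] [Algebra (Localization.AtPrime q) Dsh]
  [IsLocalHom (algebraMap (Localization.AtPrime q) Dsh)]
  [hD : Hensel.IsStrictHenselization (Localization.AtPrime q) Dsh]

include R in
/-- For `R` strictly henselian, `S` smooth over `R`, `q` over the maximal ideal and `P` a prime of
`R`: the extension of `P` to a strict henselization of `S_q` has prime radical. -/
theorem radical_map_isPrime (hq : (maximalIdeal R).map (algebraMap R S) ≤ q) (P : Ideal R)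
    [P.IsPrime] :
    (((P.map (algebraMap R S)).map (algebraMap S (Localization.AtPrime q))).map
      (algebraMap (Localization.AtPrime q) Dsh)).radical.IsPrime := by
  set I := P.map (algebraMap R S) with hI
  set D := Localization.AtPrime q with hDdef
  set J := I.map (algebraMap S D) with hJ
  have hPm : P ≤ maximalIdeal R := le_maximalIdeal (Ideal.IsPrime.ne_top inferInstance)
  have hIq : I ≤ q := (Ideal.map_mono hPm).trans hq
  haveI : IsLocalRing (R ⧸ P) := UMP.isLocalRing_quotient P (Ideal.IsPrime.ne_top inferInstance)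
  haveI : HenselianLocalRing (R ⧸ P) := henselianLocalRing_quotient P
  haveI : IsSepClosed (ResidueField (R ⧸ P)) := isSepClosed_residueField_quotient R P
  haveI : Algebra.Smooth (R ⧸ P) (S ⧸ I) := smooth_quotient R S P
  let qb : Ideal (S ⧸ I) := q.map (Ideal.Quotient.mk I)
  haveI hqbprime : qb.IsPrime :=
    Ideal.map_isPrime_of_surjective Ideal.Quotient.mk_surjective (by rw [Ideal.mk_ker]; exact hIq)
  have hqb : (maximalIdeal (R ⧸ P)).map (algebraMap (R ⧸ P) (S ⧸ I)) ≤ qb := by
    rw [Ideal.map_le_iff_le_comap]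
    intro x hx
    obtain ⟨r, rfl⟩ := Ideal.Quotient.mk_surjective x
    have hr : r ∈ maximalIdeal R := by
      rw [mem_maximalIdeal, mem_nonunits_iff] at hx ⊢
      exact fun h => hx (h.map _)
    rw [Ideal.mem_comap, Ideal.Quotient.algebraMap_quotient_map_quotient]
    exact Ideal.mem_map_of_mem _ (hq (Ideal.mem_map_of_mem _ hr))
  have hGU := isGeomUnibranch_localization_of_smooth (R ⧸ P) (S ⧸ I) qb hqb
  have hloc : IsLocalization (Algebra.algebraMapSubmonoid (S ⧸ I) q.primeCompl) (D ⧸ J) :=
    inferInstance
  have hmem : ∀ s : S, Ideal.Quotient.mk I s ∈ qb ↔ s ∈ q := by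
    intro s
    constructor
    · intro h
      rw [Ideal.mem_map_iff_of_surjective _ Ideal.Quotient.mk_surjective] at h
      obtain ⟨t, ht, hts⟩ := h
      have : t - s ∈ I := Ideal.Quotient.eq.mp hts
      have h2 : s = t - (t - s) := by ring
      rw [h2]
      exact q.sub_mem ht (hIq this)
    · exact fun h => Ideal.mem_map_of_mem _ h
  have hsub : Algebra.algebraMapSubmonoid (S ⧸ I) q.primeCompl = qb.primeCompl := by
    ext x
    constructor
    · rintro ⟨s, hs, rfl⟩
      show _ ∉ qb
      rw [Ideal.Quotient.algebraMap_eq, hmem]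
      exact hs
    · intro hx
      obtain ⟨s, rfl⟩ := Ideal.Quotient.mk_surjective x
      refine ⟨s, ?_, rfl⟩
      show s ∉ q
      rw [← hmem]
      exact hx
  haveI : IsLocalization.AtPrime (D ⧸ J) qb := by
    show IsLocalization qb.primeCompl (D ⧸ J)
    rw [← hsub]
    exact hloc
  have hJtop : J ≠ ⊤ := by
    intro h
    have h1 : J ≤ maximalIdeal D := by
      rw [← Localization.AtPrime.map_eq_maximalIdeal]
      exact Ideal.map_mono hIq
    rw [h] at h1
    exact (maximalIdeal.isMaximal D).ne_top (top_le_iff.mp h1)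
  haveI : IsLocalRing (D ⧸ J) := UMP.isLocalRing_quotient J hJtop
  let e : (D ⧸ J) ≃ₐ[S ⧸ I] Localization.AtPrime qb := IsLocalization.algEquiv qb.primeCompl _ _
  have hGU' : CAlg2.IsGeomUnibranch (D ⧸ J) := isGeomUnibranch_of_ringEquiv e.symm.toRingEquiv hGU
  haveI : IsLocalRing (Dsh ⧸ J.map (algebraMap D Dsh)) :=
    UMP.isLocalRing_quotient _ (UMP.map_ne_top J hJtop)
  haveI := UMP.isLocalHom_quotient (S := Dsh) J
  haveI := UMP.isStrictHenselization_quotient (A := D) (S := Dsh) J
  have h1 := (UMP.isGeomUnibranch_iff (A := D ⧸ J) (Ash := Dsh ⧸ J.map (algebraMap D Dsh))).mp hGU'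
  rw [UMP.hasUniqueMinimalPrime_iff] at h1
  exact radical_isPrime_of_nilradical_quotient _ _ h1

include R in
/-- For `R` strictly henselian, `S` smooth over `R` and `q` a prime over the maximal ideal, a strict
henselization of `S_q` has as many minimal primes as `R`. -/
theorem card_minimalPrimes_eq_of_smooth (hq : (maximalIdeal R).map (algebraMap R S) ≤ q)
    [Algebra R Dsh] [IsScalarTower R (Localization.AtPrime q) Dsh] :
    ENat.card (minimalPrimes R) = ENat.card (minimalPrimes Dsh) := by
  set D := Localization.AtPrime q with hDdef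
  haveI : Module.FaithfullyFlat D Dsh := faithfullyFlat_of_isStrictHenselization (R := D) Dsh
  haveI : Module.Flat R D := Module.Flat.trans R S D
  haveI : Module.Flat R Dsh := Module.Flat.trans R D Dsh
  haveI : IsLocalHom (algebraMap R D) := by
    constructor
    intro r hr
    by_contra hnu
    have h3 : r ∈ maximalIdeal R := (mem_maximalIdeal r).mpr hnu
    have h4 : algebraMap R S r ∈ q := hq (Ideal.mem_map_of_mem _ h3)
    have h5 : algebraMap S D (algebraMap R S r) ∈ maximalIdeal D :=
      (IsLocalization.AtPrime.to_map_mem_maximal_iff D q _).mpr h4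
    rw [← IsScalarTower.algebraMap_apply] at h5
    exact (mem_maximalIdeal _).mp h5 hr
  haveI : IsLocalHom (algebraMap R Dsh) := by
    rw [IsScalarTower.algebraMap_eq R D Dsh]
    exact RingHom.isLocalHom_comp _ _
  haveI : Module.FaithfullyFlat R Dsh := Module.FaithfullyFlat.of_flat_of_isLocalHom
  apply card_minimalPrimes_eq_of_forall_radical_isPrime R Dsh
  intro P hP
  haveI := hP.1.1
  have h := radical_map_isPrime R S q Dsh hq P
  rw [Ideal.map_map, Ideal.map_map] at h
  have h2 : ((algebraMap D Dsh).comp (algebraMap S D)).comp (algebraMap R S) = algebraMap R Dsh := by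
    rw [RingHom.comp_assoc, ← IsScalarTower.algebraMap_eq R S D,
      ← IsScalarTower.algebraMap_eq R D Dsh]
  rw [h2] at h
  exact h

end Count

end Groth.Agent.H8.SmoothBr
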