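import Mathlib
import Groth.Agent.Lib.Helper8.Brnch.SmoothCount
import Groth.Agent.Lib.Helper8.Hens.StrictTransfer
import Groth.Agent.Lib.Helper8.Hens.LocalTensor

/-!
# Smooth ring maps preserve the number of geometric branches (helper8)
-/

universe u
open IsLocalRing TensorProduct

namespace Groth.Agent.H8.SmoothBr

open Groth.Agent.H8.Hens Groth.Agent.H8.Brnch

variable (R : Type u) [CommRing R] (S : Type u) [CommRing S] [Algebra R S] [Algebra.Smooth R S]
  (p : Ideal R) [p.IsPrime] (q : Ideal S) [q.IsPrime] [q.LiesOver p]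
  (Ash : Type u) [CommRing Ash] [IsLocalRing Ash] [Algebra (Localization.AtPrime p) Ash]
  [IsLocalHom (algebraMap (Localization.AtPrime p) Ash)]
  [hA : Hensel.IsStrictHenselization (Localization.AtPrime p) Ash]
  (Bsh : Type u) [CommRing Bsh] [IsLocalRing Bsh] [Algebra (Localization.AtPrime q) Bsh]
  [IsLocalHom (algebraMap (Localization.AtPrime q) Bsh)]
  [hB : Hensel.IsStrictHenselization (Localization.AtPrime q) Bsh]

include R S p q hA hB in
/-- Smooth ring maps preserve the number of geometric branches. -/
theorem card_minimalPrimes_strictHenselization_eq_of_smooth :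
    ENat.card (minimalPrimes Ash) = ENat.card (minimalPrimes Bsh) := by
  set φ := Localization.localRingHom p q (algebraMap R S) (Ideal.LiesOver.over (P := q) (p := p))
    with hφ
  haveI : IsLocalHom φ := Localization.isLocalHom_localRingHom _ _ _ _
  let f : Localization.AtPrime p →+* Bsh := (algebraMap (Localization.AtPrime q) Bsh).comp φ
  haveI : IsLocalHom f := RingHom.isLocalHom_comp _ _
  haveI : HenselianLocalRing Ash := hA.henselian
  haveI : IsSepClosed (ResidueField Ash) := hA.isSepClosure.sep_closed
  haveI : HenselianLocalRing Bsh := hB.henselian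
  haveI : IsSepClosed (ResidueField Bsh) := hB.isSepClosure.sep_closed
  obtain ⟨ι, hι, hιloc⟩ :=
    LT.exists_lift_of_isSepClosed (A := Localization.AtPrime p) (S := Ash) Bsh f
  letI : Algebra R Ash :=
    ((algebraMap (Localization.AtPrime p) Ash).comp (algebraMap R (Localization.AtPrime p))).toAlgebra
  haveI : IsScalarTower R (Localization.AtPrime p) Ash := IsScalarTower.of_algebraMap_eq fun _ => rfl
  letI : Algebra S Bsh :=
    ((algebraMap (Localization.AtPrime q) Bsh).comp (algebraMap S (Localization.AtPrime q))).toAlgebra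
  haveI : IsScalarTower S (Localization.AtPrime q) Bsh := IsScalarTower.of_algebraMap_eq fun _ => rfl
  letI : Algebra R Bsh := ((algebraMap S Bsh).comp (algebraMap R S)).toAlgebra
  haveI : IsScalarTower R S Bsh := IsScalarTower.of_algebraMap_eq fun _ => rfl
  letI : Algebra Ash Bsh := ι.toAlgebra
  haveI : IsScalarTower R Ash Bsh := by
    refine IsScalarTower.of_algebraMap_eq fun r => ?_
    have h1 := congrArg (fun w => w (algebraMap R (Localization.AtPrime p) r)) hι
    simp only [RingHom.comp_apply] at h1
    show algebraMap (Localization.AtPrime q) Bsh (algebraMap S (Localization.AtPrime q)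
      (algebraMap R S r)) = ι (algebraMap (Localization.AtPrime p) Ash
        (algebraMap R (Localization.AtPrime p) r))
    rw [h1]
    show _ = algebraMap (Localization.AtPrime q) Bsh (φ (algebraMap R (Localization.AtPrime p) r))
    rw [hφ, Localization.localRingHom_to_map]
  haveI : IsLocalHom (algebraMap Ash Bsh) := hιloc
  -- `Bsh` is a strict henselization of `(Ash ⊗_R S)_Q`
  letI : Algebra (Localization.AtPrime (Qp R S Ash Bsh)) Bsh := (vMap R S Ash Bsh).toAlgebra
  haveI : IsLocalHom (algebraMap (Localization.AtPrime (Qp R S Ash Bsh)) Bsh) :=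
    isLocalHom_vMap R S Ash Bsh
  haveI : Hensel.IsStrictHenselization (Localization.AtPrime (Qp R S Ash Bsh)) Bsh :=
    isStrictHenselization_atPrime R S p q Ash Bsh
  haveI : IsScalarTower Ash (Localization.AtPrime (Qp R S Ash Bsh)) Bsh := by
    refine IsScalarTower.of_algebraMap_eq fun x => ?_
    show algebraMap Ash Bsh x = vMap R S Ash Bsh (algebraMap Ash _ x)
    rw [IsScalarTower.algebraMap_apply Ash (Ash ⊗[R] S) (Localization.AtPrime (Qp R S Ash Bsh)),
      vMap_algebraMap]
    simp [phi, Algebra.TensorProduct.algebraMap_apply]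
  have hq' : (maximalIdeal Ash).map (algebraMap Ash (Ash ⊗[R] S)) ≤ Qp R S Ash Bsh := by
    rw [Ideal.map_le_iff_le_comap]
    intro x hx
    rw [Ideal.mem_comap, Ideal.mem_comap]
    have h1 : phi R S Ash Bsh (algebraMap Ash (Ash ⊗[R] S) x) = algebraMap Ash Bsh x := by
      simp [phi, Algebra.TensorProduct.algebraMap_apply]
    rw [h1]
    have h2 : maximalIdeal Ash ≤ (maximalIdeal Bsh).comap (algebraMap Ash Bsh) :=
      ((local_hom_TFAE (algebraMap Ash Bsh)).out 0 3).mp ‹_›
    exact h2 hx
  exact card_minimalPrimes_eq_of_smooth Ash (Ash ⊗[R] S) (Qp R S Ash Bsh) Bsh hq'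

end Groth.Agent.H8.SmoothBr
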