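import Mathlib
import Groth.Agent.Lib.Helper8.Brnch.SmoothMain
import Groth.Agent.Lib.Helper8.Brnch.EtaleCountSch

/-!
# Smooth morphisms preserve the number of geometric branches: schemes (helper8)
-/

universe u
open CategoryTheory AlgebraicGeometry IsLocalRing

namespace Groth.Agent.H8.Brnch

open Groth.Agent.H8.Hens Groth.Agent.H8.SmoothBr

section Ring

variable (R : Type u) [CommRing R] (S : Type u) [CommRing S] [Algebra R S] [Algebra.Smooth R S]
  (p : Ideal R) [p.IsPrime] (q : Ideal S) [q.IsPrime]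

/-- The number of geometric branches is invariant under smooth maps. -/
theorem numGeomBranches_eq_of_smooth [q.LiesOver p]
    (Rp Sq : Type u) [CommRing Rp] [Algebra R Rp] [IsLocalization.AtPrime Rp p] [CommRing Sq]
    [Algebra S Sq] [IsLocalization.AtPrime Sq q] [IsLocalRing Rp] [IsLocalRing Sq] :
    Brnch.numGeomBranches Sq = Brnch.numGeomBranches Rp := by
  let eR : Rp ≃ₐ[R] Localization.AtPrime p := IsLocalization.algEquiv p.primeCompl _ _
  let eS : Sq ≃ₐ[S] Localization.AtPrime q := IsLocalization.algEquiv q.primeCompl _ _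
  rw [numGeomBranches_eq_of_ringEquiv eS.toRingEquiv, numGeomBranches_eq_of_ringEquiv eR.toRingEquiv]
  haveI := isStrictHenselization (R := Localization.AtPrime p)
  haveI := isStrictHenselization (R := Localization.AtPrime q)
  rw [← card_minimalPrimes_eq_numGeomBranches (Localization.AtPrime p)
      (StrictHenselization (Localization.AtPrime p)),
    ← card_minimalPrimes_eq_numGeomBranches (Localization.AtPrime q)
      (StrictHenselization (Localization.AtPrime q))]
  exact (card_minimalPrimes_strictHenselization_eq_of_smooth R S p q _ _).symm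

theorem hasUniqueMinimalPrime_iff_card (B : Type u) [CommRing B] :
    CAlgX.HasUniqueMinimalPrime B ↔ ENat.card (minimalPrimes B) = 1 := by
  show _ ↔ (minimalPrimes B).encard = 1
  rw [Set.encard_eq_one]
  constructor
  · rintro ⟨P, hP, huniq⟩
    refine ⟨P, ?_⟩
    ext Q
    simp only [Set.mem_singleton_iff]
    exact ⟨fun hQ => huniq Q hQ, fun h => h ▸ hP⟩
  · rintro ⟨P, hP⟩
    refine ⟨P, by rw [hP]; rfl, fun Q hQ => ?_⟩
    rw [hP] at hQ
    exact hQ

/-- Geometric unibranchness is invariant under smooth maps. -/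
theorem isGeomUnibranch_iff_of_smooth [q.LiesOver p]
    (Rp Sq : Type u) [CommRing Rp] [Algebra R Rp] [IsLocalization.AtPrime Rp p] [CommRing Sq]
    [Algebra S Sq] [IsLocalization.AtPrime Sq q] [IsLocalRing Rp] [IsLocalRing Sq] :
    CAlg2.IsGeomUnibranch Sq ↔ CAlg2.IsGeomUnibranch Rp := by
  let eR : Rp ≃ₐ[R] Localization.AtPrime p := IsLocalization.algEquiv p.primeCompl _ _
  let eS : Sq ≃ₐ[S] Localization.AtPrime q := IsLocalization.algEquiv q.primeCompl _ _
  haveI := isStrictHenselization (R := Localization.AtPrime p)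
  haveI := isStrictHenselization (R := Localization.AtPrime q)
  have key : CAlg2.IsGeomUnibranch (Localization.AtPrime q) ↔
      CAlg2.IsGeomUnibranch (Localization.AtPrime p) := by
    rw [UMP.isGeomUnibranch_iff (A := Localization.AtPrime p)
        (Ash := StrictHenselization (Localization.AtPrime p)),
      UMP.isGeomUnibranch_iff (A := Localization.AtPrime q)
        (Ash := StrictHenselization (Localization.AtPrime q)),
      hasUniqueMinimalPrime_iff_card, hasUniqueMinimalPrime_iff_card,
      card_minimalPrimes_strictHenselization_eq_of_smooth R S p q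
        (StrictHenselization (Localization.AtPrime p)) (StrictHenselization (Localization.AtPrime q))]
  constructor
  · intro h
    exact isGeomUnibranch_of_ringEquiv eR.symm.toRingEquiv
      (key.mp (isGeomUnibranch_of_ringEquiv eS.toRingEquiv h))
  · intro h
    exact isGeomUnibranch_of_ringEquiv eS.symm.toRingEquiv
      (key.mpr (isGeomUnibranch_of_ringEquiv eR.toRingEquiv h))

end Ring

section Sch

/-- Affine reduction for a smooth morphism at a point. -/
theorem exists_affine_smooth {X Y : Scheme.{u}} (f : X ⟶ Y) [Smooth f] (x : X) :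
    ∃ (V : Y.Opens) (_ : IsAffineOpen V) (W : X.Opens) (_ : IsAffineOpen W) (_ : x ∈ W)
      (e : W ≤ f ⁻¹ᵁ V), (f.appLE V W e).hom.Smooth := by
  obtain ⟨V, hV, hxV⟩ : ∃ V : Y.Opens, IsAffineOpen V ∧ f x ∈ V := by
    obtain ⟨_, ⟨V, hV, rfl⟩, hxV, -⟩ :=
      Y.isBasis_affineOpens.exists_subset_of_mem_open (Set.mem_univ (f x)) isOpen_univ
    exact ⟨V, hV, hxV⟩
  obtain ⟨W, hW, huW, e⟩ : ∃ W : X.Opens, IsAffineOpen W ∧ x ∈ W ∧ W ≤ f ⁻¹ᵁ V := by
    obtain ⟨_, ⟨W, hW, rfl⟩, hxW, hWV⟩ :=
      X.isBasis_affineOpens.exists_subset_of_mem_open (show x ∈ (f ⁻¹ᵁ V : Set X) from hxV)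
        (f ⁻¹ᵁ V).isOpen
    exact ⟨W, hW, hxW, hWV⟩
  exact ⟨V, hV, W, hW, huW, e, f.smooth_appLE hV hW e⟩

/-- The number of geometric branches is invariant under smooth morphisms. -/
theorem numGeomBranchesAt_eq_of_smooth {X Y : Scheme.{u}} (f : X ⟶ Y) [Smooth f] (x : X) :
    Brnch.numGeomBranchesAt X x = Brnch.numGeomBranchesAt Y (f x) := by
  obtain ⟨V, hV, W, hW, huW, e, hsm⟩ := exists_affine_smooth f x
  algebraize [(f.appLE V W e).hom]
  have hsm' : Algebra.Smooth Γ(Y, V) Γ(X, W) := hsm
  let q := (hW.primeIdealOf ⟨x, huW⟩).asIdeal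
  let p := (hV.primeIdealOf ⟨f x, e huW⟩).asIdeal
  have hp : p = q.comap (algebraMap Γ(Y, V) Γ(X, W)) := by
    have := IsAffineOpen.comap_primeIdealOf_appLE (f := f) V hV _ hW e huW
    exact (congrArg PrimeSpectrum.asIdeal this).symm
  haveI : q.LiesOver p := ⟨hp⟩
  let _ := Y.presheaf.algebra_section_stalk ⟨f x, e huW⟩
  let _ := X.presheaf.algebra_section_stalk ⟨x, huW⟩
  have h1 : IsLocalization.AtPrime (Y.presheaf.stalk (f x)) p := hV.isLocalization_stalk ⟨f x, e huW⟩
  have h2 : IsLocalization.AtPrime (X.presheaf.stalk x) q := hW.isLocalization_stalk ⟨x, huW⟩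
  exact numGeomBranches_eq_of_smooth Γ(Y, V) Γ(X, W) p q
    (Y.presheaf.stalk (f x)) (X.presheaf.stalk x)

/-- Geometric unibranchness of stalks is invariant under smooth morphisms. -/
theorem isGeomUnibranch_stalk_iff_of_smooth {X Y : Scheme.{u}} (f : X ⟶ Y) [Smooth f] (x : X) :
    CAlg2.IsGeomUnibranch (X.presheaf.stalk x) ↔ CAlg2.IsGeomUnibranch (Y.presheaf.stalk (f x)) := by
  obtain ⟨V, hV, W, hW, huW, e, hsm⟩ := exists_affine_smooth f x
  algebraize [(f.appLE V W e).hom]
  have hsm' : Algebra.Smooth Γ(Y, V) Γ(X, W) := hsm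
  let q := (hW.primeIdealOf ⟨x, huW⟩).asIdeal
  let p := (hV.primeIdealOf ⟨f x, e huW⟩).asIdeal
  have hp : p = q.comap (algebraMap Γ(Y, V) Γ(X, W)) := by
    have := IsAffineOpen.comap_primeIdealOf_appLE (f := f) V hV _ hW e huW
    exact (congrArg PrimeSpectrum.asIdeal this).symm
  haveI : q.LiesOver p := ⟨hp⟩
  let _ := Y.presheaf.algebra_section_stalk ⟨f x, e huW⟩
  let _ := X.presheaf.algebra_section_stalk ⟨x, huW⟩
  have h1 : IsLocalization.AtPrime (Y.presheaf.stalk (f x)) p := hV.isLocalization_stalk ⟨f x, e huW⟩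
  have h2 : IsLocalization.AtPrime (X.presheaf.stalk x) q := hW.isLocalization_stalk ⟨x, huW⟩
  exact isGeomUnibranch_iff_of_smooth Γ(Y, V) Γ(X, W) p q
    (Y.presheaf.stalk (f x)) (X.presheaf.stalk x)

end Sch

section Affine

open AffineSpace Limits

variable (n : Type u) (S : Scheme.{u})

instance smooth_mvPolynomial (R : Type*) [CommRing R] (σ : Type*) [Finite σ] :
    Algebra.Smooth R (MvPolynomial σ R) := ⟨inferInstance, inferInstance⟩

set_option backward.isDefEq.respectTransparency.types false in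
instance smooth_affineSpace_over [Finite n] : Smooth (𝔸(n; S) ↘ S) :=
  MorphismProperty.pullback_fst _ _ <| by
  have := isIso_of_isTerminal specULiftZIsTerminal.{u} terminalIsTerminal (terminal.from _)
  rw [← terminal.comp_from (Spec.map (CommRingCat.ofHom MvPolynomial.C)),
    MorphismProperty.cancel_right_of_respectsIso (P := @Smooth),
    HasRingHomProperty.Spec_iff (P := @Smooth), RingHom.Smooth]
  convert! (inferInstance : Algebra.Smooth (ULift ℤ) (MvPolynomial n (ULift ℤ)))
  exact Algebra.algebra_ext _ _ fun _ ↦ rfl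

end Affine

end Groth.Agent.H8.Brnch
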