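import Mathlib
import Groth.Agent.Lib.Helper8.Brnch.MinMax
import Groth.Agent.Lib.Helper8.Hens.StrictQuot
import Groth.Agent.Lib.Helper8.Brnch.NumBranches

/-!
# Minimal primes and maximal ideals of `A' ⊗_A A^sh` (helper8)
-/

universe u
open TensorProduct IsLocalRing

namespace Groth.Agent.H8.Brnch

open Groth.Agent.H8.Hens

/-- Each minimal prime lies in exactly one maximal ideal and each maximal ideal contains exactly one
minimal prime. -/
def MinMaxProp (T : Type*) [CommRing T] : Prop :=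
  (∀ q ∈ minimalPrimes T, ∃! m : Ideal T, m.IsMaximal ∧ q ≤ m) ∧
  (∀ m : Ideal T, m.IsMaximal → ∃! q : Ideal T, q ∈ minimalPrimes T ∧ q ≤ m)

theorem comap_mem_minimalPrimes_of_ringEquiv {T1 T2 : Type*} [CommRing T1] [CommRing T2]
    (e : T1 ≃+* T2) {q : Ideal T2} (hq : q ∈ minimalPrimes T2) :
    q.comap (e : T1 →+* T2) ∈ minimalPrimes T1 := by
  have h := Ideal.comap_minimalPrimes_eq_of_surjective (f := (e : T1 →+* T2)) e.surjective ⊥
  rw [Ideal.comap_bot_of_injective (e : T1 →+* T2) e.injective] at h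
  show q.comap (e : T1 →+* T2) ∈ (⊥ : Ideal T1).minimalPrimes
  rw [h]
  exact ⟨q, hq, rfl⟩

theorem MinMaxProp.of_ringEquiv {T1 T2 : Type*} [CommRing T1] [CommRing T2] (e : T1 ≃+* T2)
    (h : MinMaxProp T1) : MinMaxProp T2 := by
  have hφψ : ∀ I : Ideal T1, (I.comap (e.symm : T2 →+* T1)).comap (e : T1 →+* T2) = I := by
    intro I
    rw [Ideal.comap_comap]
    have : (e.symm : T2 →+* T1).comp (e : T1 →+* T2) = RingHom.id T1 := by
      ext x; simp
    rw [this, Ideal.comap_id]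
  have hψφ : ∀ I : Ideal T2, (I.comap (e : T1 →+* T2)).comap (e.symm : T2 →+* T1) = I := by
    intro I
    rw [Ideal.comap_comap]
    have : (e : T1 →+* T2).comp (e.symm : T2 →+* T1) = RingHom.id T2 := by
      ext x; simp
    rw [this, Ideal.comap_id]
  have hmax1 : ∀ m : Ideal T2, m.IsMaximal → (m.comap (e : T1 →+* T2)).IsMaximal := fun m hm =>
    Ideal.comap_isMaximal_of_surjective _ e.surjective
  have hmax2 : ∀ m : Ideal T1, m.IsMaximal → (m.comap (e.symm : T2 →+* T1)).IsMaximal :=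
    fun m hm => Ideal.comap_isMaximal_of_surjective _ e.symm.surjective
  constructor
  · intro q hq
    obtain ⟨m1, ⟨hm1, hqm1⟩, huniq⟩ := h.1 _ (comap_mem_minimalPrimes_of_ringEquiv e hq)
    refine ⟨m1.comap (e.symm : T2 →+* T1), ⟨hmax2 m1 hm1, ?_⟩, ?_⟩
    · rw [← hψφ q]; exact Ideal.comap_mono hqm1
    · rintro m' ⟨hm', hqm'⟩
      rw [← huniq _ ⟨hmax1 m' hm', Ideal.comap_mono hqm'⟩, hψφ]
  · intro m hm
    obtain ⟨q1, ⟨hq1, hq1m⟩, huniq⟩ := h.2 _ (hmax1 m hm)
    refine ⟨q1.comap (e.symm : T2 →+* T1), ⟨comap_mem_minimalPrimes_of_ringEquiv e.symm hq1, ?_⟩, ?_⟩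
    · rw [← hψφ m]; exact Ideal.comap_mono hq1m
    · rintro q' ⟨hq', hq'm⟩
      rw [← huniq _ ⟨comap_mem_minimalPrimes_of_ringEquiv e hq', Ideal.comap_mono hq'm⟩, hψφ]

/-- The model case. -/
theorem minMaxProp_TT {R : Type u} {K : Type u} [CommRing R] [Field K] [Algebra R K] [IsReduced R]
    (hfin : (minimalPrimes R).Finite) : MinMaxProp (TT R K) :=
  ⟨fun q hq => existsUnique_maximal_ge q (hP := hq.1.1),
    fun m hm => existsUnique_minimalPrime_le (K := K) hfin m (hM := hm)⟩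

section Iso

variable (A : Type u) [CommRing A] (I : Ideal A) (M : Type u) [CommRing M] [Algebra (A ⧸ I) M]
  [Algebra A M] [IsScalarTower A (A ⧸ I) M] (S : Type u) [CommRing S] [Algebra A S]

/-- `(S/IS) ⊗_{A/I} M ≅ M ⊗_A S`. -/
noncomputable def quotTensorEquiv :
    (S ⧸ I.map (algebraMap A S)) ⊗[A ⧸ I] M ≃+* M ⊗[A] S :=
  ((Algebra.TensorProduct.comm (A ⧸ I) (S ⧸ I.map (algebraMap A S)) M).toRingEquiv.trans
    (Algebra.TensorProduct.congr (AlgEquiv.refl : M ≃ₐ[A ⧸ I] M)
      (Algebra.TensorProduct.quotIdealMapEquivQuotTensor S I)).toRingEquiv).trans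
    (Algebra.TensorProduct.cancelBaseChange A (A ⧸ I) (A ⧸ I) M S).toRingEquiv

end Iso

/-- In `A' ⊗_A A^sh`, minimal primes and maximal ideals correspond. -/
theorem minMaxProp_normRed_tensor {A Ash : Type u} [CommRing A] [IsLocalRing A]
    (hfin : (minimalPrimes A).Finite) [CommRing Ash] [IsLocalRing Ash] [Algebra A Ash]
    [IsLocalHom (algebraMap A Ash)] [Hensel.IsStrictHenselization A Ash] :
    MinMaxProp ((CAlg2.normRed A) ⊗[A] Ash) := by
  haveI : IsLocalRing (A ⧸ nilradical A) :=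
    UMP.isLocalRing_quotient _ (UMP.nilradical_ne_top A)
  haveI : IsLocalRing (Ash ⧸ (nilradical A).map (algebraMap A Ash)) :=
    UMP.isLocalRing_quotient _ (UMP.map_ne_top _ (UMP.nilradical_ne_top A))
  haveI := UMP.isLocalHom_quotient (S := Ash) (nilradical A)
  haveI := UMP.isStrictHenselization_quotient (A := A) (S := Ash) (nilradical A)
  haveI : IsReduced (A ⧸ nilradical A) :=
    (Ideal.isRadical_iff_quotient_reduced _).mp (Ideal.radical_isRadical _)
  have hfin' : (minimalPrimes (A ⧸ nilradical A)).Finite := by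
    have e := equivMinimalPrimesOfSurjective (Ideal.Quotient.mk (nilradical A))
      Ideal.Quotient.mk_surjective (by rw [Ideal.mk_ker])
    haveI : Finite (minimalPrimes A) := hfin.to_subtype
    haveI : Finite (minimalPrimes (A ⧸ nilradical A)) := Finite.of_equiv _ e.symm
    exact Set.toFinite _
  let e0 : StrictHenselization (A ⧸ nilradical A) ≃ₐ[A ⧸ nilradical A]
      (Ash ⧸ (nilradical A).map (algebraMap A Ash)) := algEquivStrict _
  let e1 : TT (A ⧸ nilradical A) (SepK (A ⧸ nilradical A)) ≃+*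
      (Ash ⧸ (nilradical A).map (algebraMap A Ash)) ⊗[A ⧸ nilradical A] CAlg2.normRed A :=
    (Algebra.TensorProduct.congr e0 AlgEquiv.refl).toRingEquiv
  exact ((minMaxProp_TT hfin').of_ringEquiv e1).of_ringEquiv
    (quotTensorEquiv A (nilradical A) (CAlg2.normRed A) Ash)

end Groth.Agent.H8.Brnch
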