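import Mathlib
import Groth.Prelude.Def_CAlg2

/-!
# Minimal primes of `A' ⊗_A S` for `S` flat over `A` (helper8)

`A'` is the integral closure of `A_red` in its total ring of fractions.
-/

universe u
open TensorProduct

namespace Groth.Agent.H8.Brnch

/-- Sandwich lemma: if `T` is obtained from `S` (modulo nilpotents) by inverting nonzerodivisors,
contraction is a bijection on minimal primes. -/
theorem bijOn_comap_minimalPrimes {S T : Type*} [CommRing S] [CommRing T] (f : S →+* T)
    (W : Set S)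
    (h2 : ∀ w ∈ W, f w ∈ nonZeroDivisors T)
    (h3 : ∀ t : T, ∃ w ∈ W, ∃ s : S, f w * t = f s)
    (h4 : RingHom.ker f ≤ nilradical S) :
    Set.BijOn (fun P : Ideal T => P.comap f) (minimalPrimes T) (minimalPrimes S) := by
  have key : ∀ P0 ∈ minimalPrimes T, ∀ P ∈ minimalPrimes T, P0.comap f ≤ P.comap f → P0 ≤ P := by
    intro P0 hP0 P hP hle t ht
    haveI := hP.1.1
    obtain ⟨w, hw, s, hs⟩ := h3 t
    have h1 : f s ∈ P0 := hs ▸ P0.mul_mem_left _ ht
    have h5 : f s ∈ P := hle h1
    rw [← hs] at h5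
    rcases Ideal.IsPrime.mem_or_mem inferInstance h5 with h6 | h6
    · exact absurd h6 (Set.disjoint_left.mp
        (Ideal.disjoint_nonZeroDivisors_of_mem_minimalPrimes hP).symm (h2 w hw))
    · exact h6
  have hsurj : ∀ p ∈ minimalPrimes S, ∃ P ∈ minimalPrimes T, P.comap f = p := by
    intro p hp
    haveI := hp.1.1
    have hp' : p ∈ ((⊥ : Ideal T).comap f).minimalPrimes := by
      refine ⟨⟨hp.1.1, ?_⟩, fun q hq hle => hp.2 ⟨hq.1, bot_le⟩ hle⟩
      rw [← RingHom.ker_eq_comap_bot]
      exact h4.trans (nilradical_le_prime p)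
    exact Ideal.exists_minimalPrimes_comap_eq f p hp'
  refine ⟨?_, ?_, ?_⟩
  · intro P hP
    haveI := hP.1.1
    obtain ⟨p0, hp0, hp0le⟩ := Ideal.exists_minimalPrimes_le (I := ⊥) (J := P.comap f) bot_le
    obtain ⟨P0, hP0, rfl⟩ := hsurj p0 hp0
    have h1 : P0 ≤ P := key P0 hP0 P hP hp0le
    have h2 : P ≤ P0 := hP.2 hP0.1 h1
    show P.comap f ∈ minimalPrimes S
    rw [le_antisymm h2 h1]
    exact hp0
  · intro P hP P' hP' h
    have h' : P.comap f = P'.comap f := h
    exact le_antisymm (key P hP P' hP' h'.le) (key P' hP' P hP h'.ge)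
  · intro p hp
    obtain ⟨P, hP, rfl⟩ := hsurj p hp
    exact ⟨P, hP, rfl⟩

section

variable (A : Type u) [CommRing A] (S : Type u) [CommRing S] [Algebra A S]

/-- Multiplication by `1 ⊗ a` on `A' ⊗ S` is scalar multiplication by `a`. -/
theorem one_tmul_algebraMap_mul (a : A) (t : CAlg2.normRed A ⊗[A] S) :
    ((1 : CAlg2.normRed A) ⊗ₜ[A] algebraMap A S a) * t = a • t := by
  induction t using TensorProduct.induction_on with
  | zero => simp
  | tmul x s =>
    rw [Algebra.TensorProduct.tmul_mul_tmul, one_mul, TensorProduct.smul_tmul', ← Algebra.smul_def,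
      TensorProduct.smul_tmul]
  | add x y hx hy => rw [mul_add, hx, hy, smul_add]

theorem smul_normRed_injective {a : A}
    (ha : Ideal.Quotient.mk (nilradical A) a ∈ nonZeroDivisors (CAlg2.red A)) :
    Function.Injective (fun x : CAlg2.normRed A => a • x) := by
  intro x y hxy
  apply Subtype.ext
  have h1 : (a • x : CAlg2.normRed A).1 = (a • y : CAlg2.normRed A).1 := congrArg Subtype.val hxy
  have h2 : ∀ z : CAlg2.normRed A, (a • z : CAlg2.normRed A).1 =
      algebraMap (CAlg2.red A) (FractionRing (CAlg2.red A)) (Ideal.Quotient.mk (nilradical A) a) *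
        z.1 := by
    intro z
    rw [← Algebra.smul_def, ← IsScalarTower.algebraMap_smul (CAlg2.red A) a z]
    rfl
  rw [h2, h2] at h1
  have hu : IsUnit (algebraMap (CAlg2.red A) (FractionRing (CAlg2.red A))
      (Ideal.Quotient.mk (nilradical A) a)) :=
    IsLocalization.map_units (FractionRing (CAlg2.red A)) ⟨_, ha⟩
  exact hu.mul_left_cancel h1

variable [Module.Flat A S]

theorem smul_tensor_injective {a : A}
    (ha : Ideal.Quotient.mk (nilradical A) a ∈ nonZeroDivisors (CAlg2.red A)) :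
    Function.Injective (fun t : CAlg2.normRed A ⊗[A] S => a • t) := by
  have h1 := Module.Flat.rTensor_preserves_injective_linearMap (M := S)
    (LinearMap.lsmul A (CAlg2.normRed A) a) (smul_normRed_injective A ha)
  have h2 : (LinearMap.lsmul A (CAlg2.normRed A) a).rTensor S =
      LinearMap.lsmul A (CAlg2.normRed A ⊗[A] S) a := by
    apply TensorProduct.ext'
    intro x s
    simp [TensorProduct.smul_tmul']
  rw [h2] at h1
  exact h1

end

section

variable (A : Type u) [CommRing A] (S : Type u) [CommRing S] [Algebra A S]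

/-- Clearing denominators in `A' ⊗ S`. -/
theorem exists_smul_eq_one_tmul (t : CAlg2.normRed A ⊗[A] S) :
    ∃ a : A, Ideal.Quotient.mk (nilradical A) a ∈ nonZeroDivisors (CAlg2.red A) ∧
      ∃ s : S, a • t = (1 : CAlg2.normRed A) ⊗ₜ[A] s := by
  induction t using TensorProduct.induction_on with
  | zero => exact ⟨1, by rw [map_one]; exact one_mem _, 0, by simp⟩
  | tmul x s0 =>
    obtain ⟨⟨r, d⟩, hrd⟩ := IsLocalization.surj (nonZeroDivisors (CAlg2.red A)) x.1
    obtain ⟨a, ha⟩ := Ideal.Quotient.mk_surjective (d : CAlg2.red A)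
    obtain ⟨b, hb⟩ := Ideal.Quotient.mk_surjective r
    refine ⟨a, ha ▸ d.2, b • s0, ?_⟩
    have h1 : (a • x : CAlg2.normRed A) = b • (1 : CAlg2.normRed A) := by
      apply Subtype.ext
      rw [← IsScalarTower.algebraMap_smul (CAlg2.red A) a x,
        ← IsScalarTower.algebraMap_smul (CAlg2.red A) b (1 : CAlg2.normRed A)]
      show (algebraMap A (CAlg2.red A) a) • x.1 =
        (algebraMap A (CAlg2.red A) b) • (1 : FractionRing (CAlg2.red A))
      rw [Algebra.smul_def, Algebra.smul_def, mul_one, mul_comm]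
      show x.1 * algebraMap _ _ (Ideal.Quotient.mk (nilradical A) a) =
        algebraMap _ _ (Ideal.Quotient.mk (nilradical A) b)
      rw [ha, hb]
      exact hrd
    rw [TensorProduct.smul_tmul', h1, TensorProduct.smul_tmul]
  | add t1 t2 h1 h2 =>
    obtain ⟨a1, ha1, s1, hs1⟩ := h1
    obtain ⟨a2, ha2, s2, hs2⟩ := h2
    refine ⟨a1 * a2, by rw [map_mul]; exact mul_mem ha1 ha2, a2 • s1 + a1 • s2, ?_⟩
    rw [smul_add, mul_comm a1 a2, mul_smul, hs1, mul_comm a2 a1, mul_smul, hs2, TensorProduct.tmul_add,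
      TensorProduct.tmul_smul, TensorProduct.tmul_smul]

variable [Module.Flat A S]

/-- The kernel of `S → A' ⊗ S` is `nil(A) S`. -/
theorem mem_map_nilradical_of_one_tmul_eq_zero {s : S}
    (hs : (1 : CAlg2.normRed A) ⊗ₜ[A] s = 0) : s ∈ (nilradical A).map (algebraMap A S) := by
  let ι : CAlg2.red A →ₗ[A] CAlg2.normRed A :=
    (Algebra.linearMap (CAlg2.red A) (CAlg2.normRed A)).restrictScalars A
  have hι : Function.Injective ι := by
    intro x y hxy
    have h1 : algebraMap (CAlg2.red A) (FractionRing (CAlg2.red A)) x =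
        algebraMap (CAlg2.red A) (FractionRing (CAlg2.red A)) y := congrArg Subtype.val hxy
    exact IsFractionRing.injective (CAlg2.red A) (FractionRing (CAlg2.red A)) h1
  have h1 := Module.Flat.rTensor_preserves_injective_linearMap (M := S) ι hι
  have h2 : ι.rTensor S ((1 : CAlg2.red A) ⊗ₜ[A] s) = 0 := by
    rw [LinearMap.rTensor_tmul]
    show (algebraMap (CAlg2.red A) (CAlg2.normRed A) 1) ⊗ₜ[A] s = 0
    rw [map_one]; exact hs
  have h3 : (1 : CAlg2.red A) ⊗ₜ[A] s = 0 := h1 (by rw [h2, map_zero])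
  have h4 := congrArg (TensorProduct.quotTensorEquivQuotSMul S (nilradical A)) h3
  rw [map_zero] at h4
  erw [TensorProduct.quotTensorEquivQuotSMul_mk_one_tmul] at h4
  rw [Submodule.Quotient.mk_eq_zero, Ideal.smul_top_eq_map] at h4
  exact h4

/-- For `S` flat over `A` with `nil(A) S = nil(S)`: contraction along `S → A' ⊗_A S` is a bijection
on minimal primes. -/
theorem bijOn_comap_includeRight_minimalPrimes
    (hN : (nilradical A).map (algebraMap A S) = nilradical S) :
    Set.BijOn (fun P : Ideal ((CAlg2.normRed A) ⊗[A] S) =>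
        P.comap (Algebra.TensorProduct.includeRight.toRingHom :
          S →+* (CAlg2.normRed A) ⊗[A] S))
      (minimalPrimes ((CAlg2.normRed A) ⊗[A] S))
      (minimalPrimes S) := by
  refine bijOn_comap_minimalPrimes (T := (CAlg2.normRed A) ⊗[A] S)
    (Algebra.TensorProduct.includeRight.toRingHom : S →+* (CAlg2.normRed A) ⊗[A] S)
    {w | ∃ a : A, Ideal.Quotient.mk (nilradical A) a ∈ nonZeroDivisors (CAlg2.red A) ∧
      algebraMap A S a = w} ?_ ?_ ?_
  · rintro _ ⟨a, ha, rfl⟩
    rw [mem_nonZeroDivisors_iff_right]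
    intro t ht
    apply smul_tensor_injective A S ha
    show a • t = a • 0
    rw [smul_zero, ← one_tmul_algebraMap_mul, mul_comm]
    exact ht
  · intro t
    obtain ⟨a, ha, s, hs⟩ := exists_smul_eq_one_tmul A S t
    refine ⟨algebraMap A S a, ⟨a, ha, rfl⟩, s, ?_⟩
    show ((1 : CAlg2.normRed A) ⊗ₜ[A] algebraMap A S a) * t = (1 : CAlg2.normRed A) ⊗ₜ[A] s
    rw [one_tmul_algebraMap_mul, hs]
  · intro s hs
    rw [← hN]
    exact mem_map_nilradical_of_one_tmul_eq_zero A S hs

end

end Groth.Agent.H8.Brnch
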