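import Mathlib

/-!
# Transport of purely inseparable residue field extensions along squares (helper8)
-/

universe u
open IsLocalRing

namespace Groth.Agent.H8.PISq

/-- Field-level: purely inseparable extensions transport along commutative squares whose right
vertical map is surjective. -/
theorem isPurelyInseparable_of_square {K L K' L' : Type*} [Field K] [Field L] [Field K'] [Field L']
    [Algebra K L] [Algebra K' L'] [IsPurelyInseparable K L] (f : K →+* K') (g : L →+* L')
    (hg : Function.Surjective g)
    (hsq : g.comp (algebraMap K L) = (algebraMap K' L').comp f) : IsPurelyInseparable K' L' := by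
  haveI : ExpChar K (ringExpChar K) := ringExpChar.expChar K
  haveI : ExpChar K' (ringExpChar K) := expChar_of_injective_ringHom f.injective _
  rw [isPurelyInseparable_iff_pow_mem K' (ringExpChar K)]
  intro x
  obtain ⟨y, rfl⟩ := hg x
  obtain ⟨n, a, ha⟩ := (isPurelyInseparable_iff_pow_mem K (ringExpChar K)).mp ‹_› y
  refine ⟨n, f a, ?_⟩
  have := congrArg (fun w => w a) hsq
  simp only [RingHom.comp_apply] at this
  rw [← this, ha, map_pow]

section Local

variable {A B A' B' : Type*} [CommRing A] [IsLocalRing A] [CommRing B] [IsLocalRing B]
  [CommRing A'] [IsLocalRing A'] [CommRing B'] [IsLocalRing B']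

/-- Ring-hom version for residue fields of local rings. -/
theorem isPurelyInseparable_residueField_of_square (φ : A →+* B) [IsLocalHom φ] (φ' : A' →+* B')
    [IsLocalHom φ']
    (hPI : @IsPurelyInseparable (ResidueField A) (ResidueField B) _ _
      (ResidueField.map φ).toAlgebra)
    (f : A →+* A') [IsLocalHom f] (g : B →+* B') [IsLocalHom g]
    (hsq : g.comp φ = φ'.comp f) (hg : Function.Surjective (ResidueField.map g)) :
    @IsPurelyInseparable (ResidueField A') (ResidueField B') _ _
      (ResidueField.map φ').toAlgebra := by
  letI : Algebra (ResidueField A) (ResidueField B) := (ResidueField.map φ).toAlgebra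
  letI : Algebra (ResidueField A') (ResidueField B') := (ResidueField.map φ').toAlgebra
  refine isPurelyInseparable_of_square (ResidueField.map f) (ResidueField.map g) hg ?_
  refine RingHom.ext fun x => ?_
  obtain ⟨a, rfl⟩ := residue_surjective x
  show ResidueField.map g (ResidueField.map φ (residue A a)) =
    ResidueField.map φ' (ResidueField.map f (residue A a))
  simp only [ResidueField.map_residue]
  have := congrArg (fun w => w a) hsq
  simp only [RingHom.comp_apply] at this
  rw [this]

theorem isPurelyInseparable_congr_algebra {K L : Type*} [Field K] [Field L]
    (inst1 inst2 : Algebra K L) (e : inst1 = inst2)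
    (h : @IsPurelyInseparable K L _ _ inst1) : @IsPurelyInseparable K L _ _ inst2 := by
  subst e
  exact h

/-- Conversion: from a `toAlgebra` structure to the Mathlib residue field algebra instance. -/
theorem isPurelyInseparable_of_toAlgebra [Algebra A B] [IsLocalHom (algebraMap A B)]
    (φ : A →+* B) [IsLocalHom φ] (hφ : φ = algebraMap A B)
    (h : @IsPurelyInseparable (ResidueField A) (ResidueField B) _ _
      (ResidueField.map φ).toAlgebra) :
    IsPurelyInseparable (ResidueField A) (ResidueField B) := by
  have e : (ResidueField.map φ).toAlgebra =
      (inferInstance : Algebra (ResidueField A) (ResidueField B)) := by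
    apply Algebra.algebra_ext
    intro x
    obtain ⟨a, rfl⟩ := residue_surjective x
    subst hφ
    rfl
  exact isPurelyInseparable_congr_algebra _ _ e h

/-- Conversion: from the Mathlib residue field algebra instance to a `toAlgebra` structure. -/
theorem isPurelyInseparable_toAlgebra [Algebra A B] [IsLocalHom (algebraMap A B)]
    [h : IsPurelyInseparable (ResidueField A) (ResidueField B)]
    (φ : A →+* B) [IsLocalHom φ] (hφ : φ = algebraMap A B) :
    @IsPurelyInseparable (ResidueField A) (ResidueField B) _ _
      (ResidueField.map φ).toAlgebra := by
  have e : (ResidueField.map φ).toAlgebra =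
      (inferInstance : Algebra (ResidueField A) (ResidueField B)) := by
    apply Algebra.algebra_ext
    intro x
    obtain ⟨a, rfl⟩ := residue_surjective x
    subst hφ
    rfl
  exact isPurelyInseparable_congr_algebra _ _ e.symm h

/-- Instance version of the square lemma. -/
theorem isPurelyInseparable_residueField_of_square' [Algebra A B] [IsLocalHom (algebraMap A B)]
    [Algebra A' B'] [IsLocalHom (algebraMap A' B')]
    [IsPurelyInseparable (ResidueField A) (ResidueField B)]
    (f : A →+* A') [IsLocalHom f] (g : B →+* B') [IsLocalHom g]
    (hsq : g.comp (algebraMap A B) = (algebraMap A' B').comp f)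
    (hg : Function.Surjective (ResidueField.map g)) :
    IsPurelyInseparable (ResidueField A') (ResidueField B') := by
  refine isPurelyInseparable_of_square (ResidueField.map f) (ResidueField.map g) hg ?_
  refine RingHom.ext fun x => ?_
  obtain ⟨a, rfl⟩ := residue_surjective x
  show ResidueField.map g (residue B (algebraMap A B a)) =
    algebraMap (ResidueField A') (ResidueField B') (ResidueField.map f (residue A a))
  rw [ResidueField.map_residue, ResidueField.map_residue, ResidueField.algebraMap_residue]
  have := congrArg (fun w => w a) hsq
  simp only [RingHom.comp_apply] at this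
  rw [this]

end Local

end Groth.Agent.H8.PISq
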