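import Mathlib
import Groth.Agent.Lib.Helper8.Brnch.GUCrit
import Groth.Agent.Lib.Helper8.Hens.UniqueMinPrime

/-!
# Unibranchness from étale neighbourhoods with trivial residue field extension (helper8)
-/

universe u
open IsLocalRing TensorProduct Polynomial

namespace Groth.Agent.H8.Brnch

open Groth.Agent.H8.Hens

section Core

variable (R : Type u) [CommRing R] (p : Ideal R) [p.IsPrime]

open Groth.Agent.H4.IndEtCrit in
/-- If for all étale `R`-algebras `C` and primes `q'` over `p` with trivial residue field extension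
the local ring `C_{q'}` has prime nilradical, then `R_p` is unibranch. -/
theorem isUnibranch_localization_of_forall_etale
    (H : ∀ (C : Type u) [CommRing C] [Algebra R C] [Algebra.Etale R C] (q' : Ideal C) [q'.IsPrime]
      (hq : p = q'.comap (algebraMap R C)),
      Function.Bijective (Ideal.ResidueField.map p q' (algebraMap R C) hq) →
      (nilradical (Localization.AtPrime q')).IsPrime) :
    CAlg2.IsUnibranch (Localization.AtPrime p) := by
  set Rp := Localization.AtPrime p
  set Ah := Henselization Rp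
  letI : Algebra R Ah := ((algebraMap Rp Ah).comp (algebraMap R Rp)).toAlgebra
  haveI : IsScalarTower R Rp Ah := IsScalarTower.of_algebraMap_eq fun _ => rfl
  haveI hS : Hensel.IsHenselization Rp Ah := isHenselization
  have hcrit : Crit R Ah := crit_henselization_atPrime R p Ah
  rw [UMP.isUnibranch_iff (Ah := Ah), UMP.hasUniqueMinimalPrime_iff, isPrime_nilradical_iff]
  refine ⟨inferInstance, fun a b hab => ?_⟩
  obtain ⟨n, hn⟩ := hab
  obtain ⟨C₁, _, _, _, g₁, c₁, rfl⟩ := hcrit.lift a
  obtain ⟨C₂, _, _, _, g₂, c₂, rfl⟩ := hcrit.lift b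
  let g : C₁ ⊗[R] C₂ →ₐ[R] Ah := Algebra.TensorProduct.lift g₁ g₂ (fun _ _ => Commute.all _ _)
  have hg1 : g (c₁ ⊗ₜ 1) = g₁ c₁ := by simp [g]
  have hg2 : g (1 ⊗ₜ c₂) = g₂ c₂ := by simp [g]
  have hg0 : g (((c₁ ⊗ₜ[R] (1 : C₂)) * ((1 : C₁) ⊗ₜ[R] c₂)) ^ n) = 0 := by
    rw [map_pow, map_mul, hg1, hg2, hn]
  obtain ⟨C', _, _, _, h, g', hg', hh⟩ := hcrit.kill (C₁ ⊗[R] C₂) g _ hg0
  set a' : C' := h (c₁ ⊗ₜ 1) with ha'
  set b' : C' := h (1 ⊗ₜ c₂) with hb'
  have hab' : (a' * b') ^ n = 0 := by rw [ha', hb', ← map_mul, ← map_pow]; exact hh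
  have hga : g' a' = g₁ c₁ := by
    rw [ha', ← AlgHom.comp_apply, hg', hg1]
  have hgb : g' b' = g₂ c₂ := by
    rw [hb', ← AlgHom.comp_apply, hg', hg2]
  let q' : Ideal C' := (maximalIdeal Ah).comap g'.toRingHom
  haveI : q'.IsPrime := Ideal.comap_isPrime _ _
  have hq' : p = q'.comap (algebraMap R C') := comap_comap_eq p g'
  have hbij : Function.Bijective (Ideal.ResidueField.map p q' (algebraMap R C') hq') :=
    residueField_map_bijective_of_comap p g'
      (fun z => residue_surjective_of_isHenselization (R := Rp) Ah z) q' rfl hq'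
  have hprime := H C' q' hq' hbij
  rw [isPrime_nilradical_iff] at hprime
  have hunit : ∀ s : q'.primeCompl, IsUnit (g'.toRingHom (s : C')) := by
    intro s
    by_contra hnu
    exact s.2 ((mem_maximalIdeal _).mpr hnu)
  let ψ : Localization.AtPrime q' →+* Ah := IsLocalization.lift (M := q'.primeCompl) hunit
  have hψ : ∀ c, ψ (algebraMap C' _ c) = g' c := fun c => IsLocalization.lift_eq _ _
  have hnil : IsNilpotent (algebraMap C' (Localization.AtPrime q') a' *
      algebraMap C' (Localization.AtPrime q') b') := by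
    refine ⟨n, ?_⟩
    rw [← map_mul, ← map_pow, hab', map_zero]
  rcases hprime.2 _ _ hnil with h1 | h1
  · left
    have := h1.map ψ
    rwa [hψ, hga] at this
  · right
    have := h1.map ψ
    rwa [hψ, hgb] at this

end Core

end Groth.Agent.H8.Brnch
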