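import Mathlib
import Groth.Agent.Lib.Helper8.Brnch.SmoothCorePI
import Groth.Agent.Lib.Helper8.Brnch.SmoothCount
import Groth.Agent.Lib.Helper8.Hens.EtaleUB

/-!
# Smooth maps with purely inseparable residue field extension preserve the number of branches
(helper8)
-/

universe u
open IsLocalRing TensorProduct

namespace Groth.Agent.H8.SmoothBr

open Groth.Agent.H8.Hens Groth.Agent.H8.Brnch

section Count

variable (R : Type u) [CommRing R] [HenselianLocalRing R]
  (S : Type u) [CommRing S] [Algebra R S] [Algebra.Smooth R S]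
  (q : Ideal S) [q.IsPrime] [IsLocalHom (algebraMap R (Localization.AtPrime q))]
  [IsPurelyInseparable (ResidueField R) (ResidueField (Localization.AtPrime q))]
  (Dh : Type u) [CommRing Dh] [IsLocalRing Dh] [Algebra (Localization.AtPrime q) Dh]
  [IsLocalHom (algebraMap (Localization.AtPrime q) Dh)]
  [hD : Hensel.IsHenselization (Localization.AtPrime q) Dh]

include R in
/-- For `R` henselian, `S` smooth over `R`, `q` over the maximal ideal with purely inseparable
residue field extension and `P` a prime of `R`: the extension of `P` to a henselization of `S_q`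
has prime radical. -/
theorem radical_map_isPrime_PI (P : Ideal R) [P.IsPrime] :
    (((P.map (algebraMap R S)).map (algebraMap S (Localization.AtPrime q))).map
      (algebraMap (Localization.AtPrime q) Dh)).radical.IsPrime := by
  have hq := map_maximalIdeal_le_of_isLocalHom R S q
  set I := P.map (algebraMap R S) with hI
  set D := Localization.AtPrime q with hDdef
  set J := I.map (algebraMap S D) with hJ
  have hPm : P ≤ maximalIdeal R := le_maximalIdeal (Ideal.IsPrime.ne_top inferInstance)
  have hIq : I ≤ q := (Ideal.map_mono hPm).trans hq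
  haveI : IsLocalRing (R ⧸ P) := UMP.isLocalRing_quotient P (Ideal.IsPrime.ne_top inferInstance)
  haveI : HenselianLocalRing (R ⧸ P) := henselianLocalRing_quotient P
  haveI : Algebra.Smooth (R ⧸ P) (S ⧸ I) := smooth_quotient R S P
  let qb : Ideal (S ⧸ I) := q.map (Ideal.Quotient.mk I)
  haveI hqbprime : qb.IsPrime :=
    Ideal.map_isPrime_of_surjective Ideal.Quotient.mk_surjective (by rw [Ideal.mk_ker]; exact hIq)
  have hqb : (maximalIdeal (R ⧸ P)).map (algebraMap (R ⧸ P) (S ⧸ I)) ≤ qb := by
    rw [Ideal.map_le_iff_le_comap]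
    intro x hx
    obtain ⟨r, rfl⟩ := Ideal.Quotient.mk_surjective x
    have hr : r ∈ maximalIdeal R := by
      rw [mem_maximalIdeal, mem_nonunits_iff] at hx ⊢
      exact fun h => hx (h.map _)
    rw [Ideal.mem_comap, Ideal.Quotient.algebraMap_quotient_map_quotient]
    exact Ideal.mem_map_of_mem _ (hq (Ideal.mem_map_of_mem _ hr))
  have hmem : ∀ s : S, Ideal.Quotient.mk I s ∈ qb ↔ s ∈ q := by
    intro s
    constructor
    · intro h
      rw [Ideal.mem_map_iff_of_surjective _ Ideal.Quotient.mk_surjective] at h
      obtain ⟨t, ht, hts⟩ := h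
      have : t - s ∈ I := Ideal.Quotient.eq.mp hts
      have h2 : s = t - (t - s) := by ring
      rw [h2]
      exact q.sub_mem ht (hIq this)
    · exact fun h => Ideal.mem_map_of_mem _ h
  haveI : IsLocalHom (algebraMap (R ⧸ P) (Localization.AtPrime qb)) :=
    isLocalHom_algebraMap_localization_of_le (R ⧸ P) (S ⧸ I) qb hqb
  have hqcomap : q = qb.comap (Ideal.Quotient.mk I) := by
    ext s
    rw [Ideal.mem_comap, hmem]
  set g := Localization.localRingHom q qb (Ideal.Quotient.mk I) hqcomap with hg
  haveI : IsLocalHom g := Localization.isLocalHom_localRingHom _ _ _ _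
  haveI : IsLocalHom (Ideal.Quotient.mk P) := .of_surjective _ Ideal.Quotient.mk_surjective
  have hgsurj : Function.Surjective g := by
    intro b'
    obtain ⟨c', s', rfl⟩ := IsLocalization.exists_mk'_eq qb.primeCompl b'
    obtain ⟨c, rfl⟩ := Ideal.Quotient.mk_surjective c'
    obtain ⟨s, hs⟩ := Ideal.Quotient.mk_surjective (s' : S ⧸ I)
    have hsq : s ∈ q.primeCompl := by
      show s ∉ q
      rw [← hmem, hs]
      exact s'.2
    refine ⟨IsLocalization.mk' _ c (⟨s, hsq⟩ : q.primeCompl), ?_⟩
    rw [hg, Localization.localRingHom_mk']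
    congr 1
    exact Subtype.ext hs
  haveI : IsPurelyInseparable (ResidueField (R ⧸ P)) (ResidueField (Localization.AtPrime qb)) := by
    refine PISq.isPurelyInseparable_residueField_of_square' (A := R) (B := D)
      (Ideal.Quotient.mk P) g ?_ ?_
    · refine RingHom.ext fun r => ?_
      simp only [RingHom.comp_apply]
      rw [IsScalarTower.algebraMap_apply R S D, hg, Localization.localRingHom_to_map,
        IsScalarTower.algebraMap_apply (R ⧸ P) (S ⧸ I) (Localization.AtPrime qb),
        Ideal.Quotient.algebraMap_quotient_map_quotient]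
    · intro x
      obtain ⟨b', rfl⟩ := residue_surjective x
      obtain ⟨b, rfl⟩ := hgsurj b'
      exact ⟨residue _ b, ResidueField.map_residue _ _⟩
  have hU := isUnibranch_localization_of_smooth_PI (R ⧸ P) (S ⧸ I) qb
  have hloc : IsLocalization (Algebra.algebraMapSubmonoid (S ⧸ I) q.primeCompl) (D ⧸ J) :=
    inferInstance
  have hsub : Algebra.algebraMapSubmonoid (S ⧸ I) q.primeCompl = qb.primeCompl := by
    ext x
    constructor
    · rintro ⟨s, hs, rfl⟩
      show _ ∉ qb
      rw [Ideal.Quotient.algebraMap_eq, hmem]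
      exact hs
    · intro hx
      obtain ⟨s, rfl⟩ := Ideal.Quotient.mk_surjective x
      refine ⟨s, ?_, rfl⟩
      show s ∉ q
      rw [← hmem]
      exact hx
  haveI : IsLocalization.AtPrime (D ⧸ J) qb := by
    show IsLocalization qb.primeCompl (D ⧸ J)
    rw [← hsub]
    exact hloc
  have hJtop : J ≠ ⊤ := by
    intro h
    have h1 : J ≤ maximalIdeal D := by
      rw [← Localization.AtPrime.map_eq_maximalIdeal]
      exact Ideal.map_mono hIq
    rw [h] at h1
    exact (maximalIdeal.isMaximal D).ne_top (top_le_iff.mp h1)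
  haveI : IsLocalRing (D ⧸ J) := UMP.isLocalRing_quotient J hJtop
  let e : (D ⧸ J) ≃ₐ[S ⧸ I] Localization.AtPrime qb := IsLocalization.algEquiv qb.primeCompl _ _
  have hU' : CAlg2.IsUnibranch (D ⧸ J) := EH.isUnibranch_of_ringEquiv e.symm.toRingEquiv hU
  haveI : IsLocalRing (Dh ⧸ J.map (algebraMap D Dh)) :=
    UMP.isLocalRing_quotient _ (UMP.map_ne_top J hJtop)
  haveI := UMP.isLocalHom_quotient (S := Dh) J
  haveI := isHenselization_quotient (A := D) (S := Dh) J
  have h1 := (UMP.isUnibranch_iff (A := D ⧸ J) (Ah := Dh ⧸ J.map (algebraMap D Dh))).mp hU'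
  rw [UMP.hasUniqueMinimalPrime_iff] at h1
  exact radical_isPrime_of_nilradical_quotient _ _ h1

include R in
/-- For `R` henselian, `S` smooth over `R` and `q` a prime over the maximal ideal with purely
inseparable residue field extension, a henselization of `S_q` has as many minimal primes as `R`. -/
theorem card_minimalPrimes_eq_of_smooth_PI
    [Algebra R Dh] [IsScalarTower R (Localization.AtPrime q) Dh] :
    ENat.card (minimalPrimes R) = ENat.card (minimalPrimes Dh) := by
  set D := Localization.AtPrime q with hDdef
  haveI : Module.FaithfullyFlat D Dh := faithfullyFlat_of_isHenselization (R := D) Dh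
  haveI : Module.Flat R D := Module.Flat.trans R S D
  haveI : Module.Flat R Dh := Module.Flat.trans R D Dh
  haveI : IsLocalHom (algebraMap R Dh) := by
    rw [IsScalarTower.algebraMap_eq R D Dh]
    exact RingHom.isLocalHom_comp _ _
  haveI : Module.FaithfullyFlat R Dh := Module.FaithfullyFlat.of_flat_of_isLocalHom
  apply card_minimalPrimes_eq_of_forall_radical_isPrime R Dh
  intro P hP
  haveI := hP.1.1
  have h := radical_map_isPrime_PI R S q Dh P
  rw [Ideal.map_map, Ideal.map_map] at h
  have h2 : ((algebraMap D Dh).comp (algebraMap S D)).comp (algebraMap R S) = algebraMap R Dh := by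
    rw [RingHom.comp_assoc, ← IsScalarTower.algebraMap_eq R S D,
      ← IsScalarTower.algebraMap_eq R D Dh]
  rw [h2] at h
  exact h

end Count

end Groth.Agent.H8.SmoothBr
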