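import Mathlib
import Groth.Agent.Lib.Helper8.Brnch.SmoothCountPI
import Groth.Agent.Lib.Helper8.Hens.StrictTransfer
import Groth.Agent.Lib.Helper8.Hens.QFHens

/-!
# Smooth ring maps with purely inseparable residue field extension preserve the number of
branches (helper8)
-/

universe u
open IsLocalRing TensorProduct

namespace Groth.Agent.H8.SmoothBr

open Groth.Agent.H8.Hens Groth.Agent.H8.Brnch

variable (R : Type u) [CommRing R] (S : Type u) [CommRing S] [Algebra R S] [Algebra.Smooth R S]
  (p : Ideal R) [p.IsPrime] (q : Ideal S) [q.IsPrime] [q.LiesOver p]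
  (Ah : Type u) [CommRing Ah] [IsLocalRing Ah] [Algebra (Localization.AtPrime p) Ah]
  [IsLocalHom (algebraMap (Localization.AtPrime p) Ah)]
  [hA : Hensel.IsHenselization (Localization.AtPrime p) Ah]
  (Bh : Type u) [CommRing Bh] [IsLocalRing Bh] [Algebra (Localization.AtPrime q) Bh]
  [IsLocalHom (algebraMap (Localization.AtPrime q) Bh)]
  [hB : Hensel.IsHenselization (Localization.AtPrime q) Bh]

include R S p q hA hB in
/-- Smooth ring maps with purely inseparable residue field extension preserve the number of
branches. -/
theorem card_minimalPrimes_henselization_eq_of_smooth_PI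
    (hpi : @IsPurelyInseparable p.ResidueField q.ResidueField _ _
      (Ideal.ResidueField.mapₐ p q (Algebra.ofId R S) (q.over_def p)).toRingHom.toAlgebra) :
    ENat.card (minimalPrimes Ah) = ENat.card (minimalPrimes Bh) := by
  set φ := Localization.localRingHom p q (algebraMap R S) (Ideal.LiesOver.over (P := q) (p := p))
    with hφ
  haveI : IsLocalHom φ := Localization.isLocalHom_localRingHom _ _ _ _
  have hpi' : @IsPurelyInseparable (ResidueField (Localization.AtPrime p))
      (ResidueField (Localization.AtPrime q)) _ _ (ResidueField.map φ).toAlgebra := hpi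
  let f : Localization.AtPrime p →+* Bh := (algebraMap (Localization.AtPrime q) Bh).comp φ
  haveI hfloc : IsLocalHom f := RingHom.isLocalHom_comp _ _
  haveI : HenselianLocalRing Ah := hA.henselian
  haveI : HenselianLocalRing Bh := hB.henselian
  obtain ⟨ι, hι, -⟩ := hA.universal Bh f hfloc
  have hιloc : IsLocalHom ι :=
    isLocalHom_of_isHenselization (R := Localization.AtPrime p) Ah ι (by rw [hι]; exact hfloc)
  letI : Algebra R Ah :=
    ((algebraMap (Localization.AtPrime p) Ah).comp (algebraMap R (Localization.AtPrime p))).toAlgebra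
  haveI : IsScalarTower R (Localization.AtPrime p) Ah := IsScalarTower.of_algebraMap_eq fun _ => rfl
  letI : Algebra S Bh :=
    ((algebraMap (Localization.AtPrime q) Bh).comp (algebraMap S (Localization.AtPrime q))).toAlgebra
  haveI : IsScalarTower S (Localization.AtPrime q) Bh := IsScalarTower.of_algebraMap_eq fun _ => rfl
  letI : Algebra R Bh := ((algebraMap S Bh).comp (algebraMap R S)).toAlgebra
  haveI : IsScalarTower R S Bh := IsScalarTower.of_algebraMap_eq fun _ => rfl
  letI : Algebra Ah Bh := ι.toAlgebra
  haveI : IsScalarTower R Ah Bh := by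
    refine IsScalarTower.of_algebraMap_eq fun r => ?_
    have h1 := congrArg (fun w => w (algebraMap R (Localization.AtPrime p) r)) hι
    simp only [RingHom.comp_apply] at h1
    show algebraMap (Localization.AtPrime q) Bh (algebraMap S (Localization.AtPrime q)
      (algebraMap R S r)) = ι (algebraMap (Localization.AtPrime p) Ah
        (algebraMap R (Localization.AtPrime p) r))
    rw [h1]
    show _ = algebraMap (Localization.AtPrime q) Bh (φ (algebraMap R (Localization.AtPrime p) r))
    rw [hφ, Localization.localRingHom_to_map]
  haveI : IsLocalHom (algebraMap Ah Bh) := hιloc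
  -- `Bh` is a henselization of `(Ah ⊗_R S)_Q`
  set L' := Localization.AtPrime (Qp R S Ah Bh) with hL'
  letI : Algebra L' Bh := (vMap R S Ah Bh).toAlgebra
  haveI : IsLocalHom (algebraMap L' Bh) := isLocalHom_vMap R S Ah Bh
  haveI : Hensel.IsHenselization L' Bh :=
    isHenselization_of_epi (uMap R S q Ah Bh) inferInstance
      (vMap_comp_uMap R S q Ah Bh) (hepi_atPrime R S p q Ah Bh)
  haveI : IsScalarTower Ah L' Bh := by
    refine IsScalarTower.of_algebraMap_eq fun x => ?_
    show algebraMap Ah Bh x = vMap R S Ah Bh (algebraMap Ah _ x)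
    rw [IsScalarTower.algebraMap_apply Ah (Ah ⊗[R] S) L', vMap_algebraMap]
    simp [phi, Algebra.TensorProduct.algebraMap_apply]
  have hjeq : jMap R S Ah Bh = algebraMap Ah L' := by
    refine RingHom.ext fun x => ?_
    rw [jMap_apply, IsScalarTower.algebraMap_apply Ah (Ah ⊗[R] S) L',
      Algebra.TensorProduct.algebraMap_apply]
    rfl
  haveI : IsLocalHom (algebraMap Ah L') := by
    rw [← hjeq]
    exact isLocalHom_jMap R S Ah Bh
  -- residue fields
  have hsurj : Function.Surjective (ResidueField.map (uMap R S q Ah Bh)) := by
    intro x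
    have hb := residueField_map_bijective_of_isHenselization (R := Localization.AtPrime q) Bh
    obtain ⟨y, hy⟩ := hb.2 (ResidueField.map (vMap R S Ah Bh) x)
    refine ⟨y, ?_⟩
    apply (ResidueField.map (vMap R S Ah Bh)).injective
    rw [← hy]
    obtain ⟨b, rfl⟩ := residue_surjective y
    simp only [ResidueField.map_residue]
    have := congrArg (fun w => w b) (vMap_comp_uMap R S q Ah Bh)
    simp only [RingHom.comp_apply] at this
    rw [this]
  haveI : IsPurelyInseparable (ResidueField Ah) (ResidueField L') := by
    refine PISq.isPurelyInseparable_of_toAlgebra (algebraMap Ah L') rfl ?_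
    refine PISq.isPurelyInseparable_residueField_of_square φ (algebraMap Ah L') hpi'
      (algebraMap (Localization.AtPrime p) Ah) (uMap R S q Ah Bh) ?_ hsurj
    apply IsLocalization.ringHom_ext p.primeCompl
    refine RingHom.ext fun r => ?_
    simp only [RingHom.comp_apply]
    rw [hφ, Localization.localRingHom_to_map, uMap_algebraMap,
      ← IsScalarTower.algebraMap_apply R (Localization.AtPrime p) Ah, ← hjeq, jMap_algebraMap]
  exact card_minimalPrimes_eq_of_smooth_PI Ah (Ah ⊗[R] S) (Qp R S Ah Bh) Bh

end Groth.Agent.H8.SmoothBr
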